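import Groth.Prelude.Def_Omega3
import Mathlib.CategoryTheory.Subobject.Limits
import Mathlib.Algebra.Homology.ShortComplex.Exact

/-!
# Maps out of pullbacks and out of universal derivations
-/

set_option autoImplicit false
set_option linter.style.haveILetI false
set_option backward.isDefEq.respectTransparency false

universe u

open CategoryTheory CategoryTheory.Limits AlgebraicGeometry Opposite

noncomputable section

namespace GrothLib.PPGen

variable {X Y : Scheme.{u}}

/-- A map out of a pullback is determined by pulled back sections. -/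
theorem hom_ext_pullSect (h : X ⟶ Y) {M : Y.Modules} {G : X.Modules}
    (a b : (Scheme.Modules.pullback h).obj M ⟶ G)
    (hab : ∀ (U : Y.Opens) (t : Γ(M, U)),
      a.app (h ⁻¹ᵁ U) (OmegaSh.pullSect h M U t) = b.app (h ⁻¹ᵁ U) (OmegaSh.pullSect h M U t)) :
    a = b := by
  let adj := Scheme.Modules.pullbackPushforwardAdjunction h
  refine (adj.homEquiv _ _).injective (Scheme.Modules.hom_ext _ _ fun U => ?_)
  ext t
  exact (congr($(adj.homEquiv_unit _ _ a).app U t)).trans
    ((hab U t).trans (congr($(adj.homEquiv_unit _ _ b).app U t)).symm)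

/-- The map into the pullback along the identity is the pullback of sections. -/
theorem pullbackId_inv_app (M : X.Modules) (U : X.Opens) (t : Γ(M, U)) :
    ((Scheme.Modules.pullbackId X).inv.app M).app U t = OmegaSh.pullSect (𝟙 X) M U t := by
  have h := unit_conjugateEquiv Adjunction.id (Scheme.Modules.pullbackPushforwardAdjunction (𝟙 X))
    (Scheme.Modules.pullbackId X).hom M
  rw [Scheme.Modules.conjugateEquiv_pullbackId_hom] at h
  have h1 : t = ((Scheme.Modules.pullbackId X).hom.app M).app U (OmegaSh.pullSect (𝟙 X) M U t) :=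
    congr($(h).app U t)
  conv_lhs => rw [h1]
  exact congr($((Scheme.Modules.pullbackId X).hom_inv_id_app M).app U (OmegaSh.pullSect (𝟙 X) M U t))

/-- Maps out of the target of a universal derivation are determined on differentials. -/
theorem hom_ext_universal {f : X ⟶ Y} {Ω : X.Modules} {d : OmegaSh.Der f Ω}
    (hd : OmegaSh.IsUniversal d) {G : X.Modules} (a b : Ω ⟶ G)
    (h : ∀ (U : X.Opens) (s : Γ(X, U)), a.app U (d.app U s) = b.app U (d.app U s)) : a = b := by
  obtain ⟨γ, -, hγ⟩ := hd G (d.postcomp a.val)
  refine (hγ a rfl).trans (hγ b ?_).symm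
  exact PresheafOfModules.Derivation.ext (funext fun U => AddMonoidHom.ext fun s => (h U.unop s).symm)

/-- A cokernel gives the equality of image and kernel. -/
theorem image_eq_kernel_of_cokernel {C : Type*} [Category C] [Abelian C] {A B D : C} (p : A ⟶ B)
    (q : B ⟶ D) (w : p ≫ q = 0)
    (hdesc : ∀ {G : C} (k : B ⟶ G), p ≫ k = 0 → ∃ l : D ⟶ G, q ≫ l = k) [Epi q] :
    imageSubobject p = kernelSubobject q := by
  have hex : (ShortComplex.mk p q w).Exact :=
    ShortComplex.exact_of_g_is_cokernel _ (CokernelCofork.IsColimit.ofπ q w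
      (fun k hk => (hdesc k hk).choose) (fun k hk => (hdesc k hk).choose_spec)
      (fun k hk m hm => by rw [← cancel_epi q, hm, (hdesc k hk).choose_spec]))
  exact (ShortComplex.exact_iff_image_eq_kernel _).1 hex

end GrothLib.PPGen
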