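import Groth.Agent.Lib.PPGen.Ring
import Groth.Agent.Lib.CurveMult.OmegaGen

/-!
# Differentials of functions generate the sheaf of differentials over any base
-/

set_option autoImplicit false
set_option linter.style.haveILetI false
set_option backward.isDefEq.respectTransparency false
set_option maxHeartbeats 800000

universe u

open CategoryTheory CategoryTheory.Limits AlgebraicGeometry Opposite
open GrothLib.InvExt (mres fres)
open scoped TensorProduct
open GrothLib

noncomputable section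

namespace GrothLib.PPGen

variable {X Y : Scheme.{u}} (f : X ⟶ Y) [QuasiSeparated f]

/-- The kernel of the diagonal on `U ×_Y U`. -/
theorem mem_span_diagDiff {V : Y.Opens} (hV : IsAffineOpen V) {U : X.Opens} (hU : IsAffineOpen U) (hUV : U ≤ f ⁻¹ᵁ V) {t : Γ(pullback f f, OmegaSh.diagNbhd f U)}
    (ht : (pullback.diagonal f).app (OmegaSh.diagNbhd f U) t = 0) :
    t ∈ Ideal.span (Set.range (OmegaSh.diagDiff f U)) := by
  let W := OmegaSh.diagNbhd f U
  let p := (pullback.fst f f).appLE U W inf_le_left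
  let q := (pullback.snd f f).appLE U W inf_le_right
  let r : Γ(pullback f f, W) →+* Γ(X, U) :=
    (X.presheaf.map (homOfLE (OmegaSh.le_preimage_diagNbhd f U)).op).hom.comp ((pullback.diagonal f).app W).hom
  have hrp : ∀ a, r (p a) = a :=
    OmegaSh.res_diagonal_app_appLE f _ (pullback.diagonal_fst f) U inf_le_left
  have hrq : ∀ a, r (q a) = a :=
    OmegaSh.res_diagonal_app_appLE f _ (pullback.diagonal_snd f) U inf_le_right
  let J := Ideal.span (Set.range (OmegaSh.diagDiff f U))
  have key : ∀ s, s - p (r s) ∈ J := by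
    intro s
    have hs : s ∈ Subring.closure (Set.range p.hom ∪ Set.range q.hom) := by
      rw [(closure_appLE_eq_top f hV hU hUV).2]; trivial
    induction hs using Subring.closure_induction with
    | mem s hs =>
      rcases hs with ⟨a, rfl⟩ | ⟨a, rfl⟩
      · rw [hrp]; exact (sub_self (p.hom a)).symm ▸ J.zero_mem
      · rw [hrq]; exact Ideal.subset_span ⟨a, rfl⟩
    | zero => simp
    | one => simp
    | add a b _ _ ha hb =>
      rw [map_add, map_add, add_sub_add_comm]; exact J.add_mem ha hb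
    | neg a _ ha =>
      rw [map_neg, map_neg, ← neg_sub']; exact J.neg_mem ha
    | mul a b _ _ ha hb =>
      have : a * b - p (r (a * b)) = a * (b - p (r b)) + p (r b) * (a - p (r a)) := by
        rw [map_mul, map_mul]; ring
      rw [this]
      exact J.add_mem (J.mul_mem_left _ hb) (J.mul_mem_left _ ha)
  have h0 : r t = 0 := by
    show X.presheaf.map _ ((pullback.diagonal f).app W t) = 0
    rw [ht, map_zero]
  have := key t
  rwa [h0, map_zero, sub_zero] at this

variable (x : X)

/-- The stalks of the sheaf of differentials are spanned by differentials of functions. -/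
theorem span_dOmega (S : Submodule (X.presheaf.stalk x) ((OX.stalk x).obj (Omega.sheaf f)))
    (h : ∀ (U : X.Opens) (hx : x ∈ U) (s : Γ(X, U)),
      OX.germ (DCoh.toP.obj (Omega.sheaf f)) U hx ((OmegaSh.dOmega f).app U s) ∈ S) :
    S = ⊤ := by
  refine CurveMult.OmegaGen.span_pull (pullback.diagonal f) _ x S fun U' hx m => ?_
  obtain ⟨V, hV, hxV, -⟩ := exists_isAffineOpen_mem_and_subset (x := f x) (U := ⊤) trivial
  obtain ⟨U, hU, hxU, hUV⟩ := exists_isAffineOpen_mem_and_subset (x := x) (U := f ⁻¹ᵁ V) hxV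
  let Δ := pullback.diagonal f
  let I := Δ.ker
  have hW0 : IsAffineOpen (OmegaSh.diagNbhd f U) := (closure_appLE_eq_top f hV hU hUV).1
  have hxW0 : Δ x ∈ OmegaSh.diagNbhd f U := OmegaSh.le_preimage_diagNbhd f U hxU
  obtain ⟨W, hxW, hW⟩ := BlowUp.exists_affine_mem_le
    (W := U' ⊓ OmegaSh.diagNbhd f U) (⟨hx, hxW0⟩ : Δ x ∈ U' ⊓ OmegaSh.diagNbhd f U)
  let G : Γ(ClSub.idealMod I, W.1) → (OX.stalk x).obj (Omega.sheaf f) := fun k =>
    OX.germ (DCoh.toP.obj (Omega.sheaf f)) (Δ ⁻¹ᵁ W.1) hxW (OX.pullSec Δ (ClSub.idealMod I) W.1 k)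
  have hGadd : ∀ a b, G (a + b) = G a + G b := fun a b => by
    show OX.germ _ _ _ (OX.pullSec Δ _ W.1 (a + b)) = _
    rw [show OX.pullSec Δ (ClSub.idealMod I) W.1 (a + b) =
      OX.pullSec Δ (ClSub.idealMod I) W.1 a + OX.pullSec Δ (ClSub.idealMod I) W.1 b from map_add _ _ _]
    exact map_add _ _ _
  have hGsmul : ∀ (c : Γ(pullback f f, W.1)) a,
      G (c • a) = X.presheaf.germ (Δ ⁻¹ᵁ W.1) x hxW (Δ.app W.1 c) • G a := fun c a =>
    (congrArg (OX.germ (DCoh.toP.obj (Omega.sheaf f)) (Δ ⁻¹ᵁ W.1) hxW)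
      (OmegaSh.pullSect_smul Δ (ClSub.idealMod I) W.1 c a)).trans
      (OX.germ_smul' (DCoh.toP.obj (Omega.sheaf f)) (Δ ⁻¹ᵁ W.1) hxW (Δ.app W.1 c) _)
  have hres : ∀ {A B : (pullback f f).Opens} (hBA : B ≤ A) (hA : Δ x ∈ A) (hB : Δ x ∈ B)
      (k : Γ(ClSub.idealMod I, A)),
      OX.germ (DCoh.toP.obj (Omega.sheaf f)) (Δ ⁻¹ᵁ B) hB
          (OX.pullSec Δ (ClSub.idealMod I) B (mres (ClSub.idealMod I) hBA k)) =
        OX.germ (DCoh.toP.obj (Omega.sheaf f)) (Δ ⁻¹ᵁ A) hA (OX.pullSec Δ (ClSub.idealMod I) A k) :=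
    fun {A B} hBA hA hB k =>
      (congrArg (OX.germ (DCoh.toP.obj (Omega.sheaf f)) (Δ ⁻¹ᵁ B) hB)
        (OmegaSh.pullSect_map Δ (ClSub.idealMod I) hBA k)).trans
        (OX.germ_map (DCoh.toP.obj (Omega.sheaf f)) (homOfLE (Δ.preimage_mono hBA)) hB _)
  have hgen : ∀ a ∈ I.ideal W, ∃ k, IdealModSec.val I W.1 k = a ∧ G k ∈ S := by
    intro a ha
    rw [← I.map_ideal (U := W) (V := ⟨_, hW0⟩) (hW.trans inf_le_right)] at ha
    have ha' : a ∈ Ideal.span (Set.range fun s => fres (pullback f f) (hW.trans inf_le_right)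
        (OmegaSh.diagDiff f U s)) := by
      rw [show (Set.range fun s => fres (pullback f f) (hW.trans inf_le_right) (OmegaSh.diagDiff f U s)) =
          ((pullback f f).presheaf.map (homOfLE (hW.trans inf_le_right)).op).hom '' Set.range (OmegaSh.diagDiff f U)
        from (Set.range_comp _ _), ← Ideal.map_span]
      refine Ideal.map_mono ?_ ha
      intro t ht
      refine mem_span_diagDiff f hV hU hUV ?_
      rw [Scheme.Hom.ker_apply, RingHom.mem_ker] at ht
      exact ht
    clear ha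
    induction ha' using Submodule.span_induction with
    | mem a ha =>
      obtain ⟨s, rfl⟩ := ha
      refine ⟨mres (ClSub.idealMod I) (hW.trans inf_le_right) (OmegaSh.idealLift f U s), ?_, ?_⟩
      · rw [IdealModSec.val_mres]
        exact congrArg _ (OmegaSh.ι_idealLift f U s)
      · have h1 := h U hxU s
        have h2 : OX.germ (DCoh.toP.obj (Omega.sheaf f)) U hxU ((OmegaSh.dOmega f).app U s) =
            G (mres (ClSub.idealMod I) (hW.trans inf_le_right) (OmegaSh.idealLift f U s)) :=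
          (OX.germ_map (DCoh.toP.obj (Omega.sheaf f)) (homOfLE (OmegaSh.le_preimage_diagNbhd f U)) hxU _).trans
            (hres (hW.trans inf_le_right) hxW0 hxW _).symm
        exact h2 ▸ h1
    | zero =>
      refine ⟨0, IdealModSec.val_zero I W.1, ?_⟩
      have h1 := hGsmul 0 0
      rw [zero_smul, map_zero, map_zero, zero_smul] at h1
      exact h1 ▸ S.zero_mem
    | add a b _ _ ha hb =>
      obtain ⟨k, rfl, hk⟩ := ha
      obtain ⟨l, rfl, hl⟩ := hb
      exact ⟨k + l, map_add ((ClSub.idealModι I).app W.1).hom k l, (hGadd k l).symm ▸ S.add_mem hk hl⟩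
    | smul c a _ ha =>
      obtain ⟨k, rfl, hk⟩ := ha
      exact ⟨c • k, IdealModSec.val_smul I W.1 c k, (hGsmul c k).symm ▸ S.smul_mem _ hk⟩
  obtain ⟨k, hk, hkS⟩ := hgen _ (IdealModSec.val_mem I W (mres (ClSub.idealMod I) (hW.trans inf_le_left) m))
  rw [IdealModSec.val_injective I W.1 hk] at hkS
  exact (congrArg (· ∈ S) (hres (hW.trans inf_le_left) hx hxW m)).mp hkS

omit x in
/-- Linear maps out of the sheaf of differentials are determined on differentials of functions. -/
theorem hom_ext_dOmega {F : X.Modules} (a b : Omega.sheaf f ⟶ F)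
    (h : ∀ (U : X.Opens) (s : Γ(X, U)),
      a.app U ((OmegaSh.dOmega f).app U s) = b.app U ((OmegaSh.dOmega f).app U s)) : a = b := by
  refine Scheme.Modules.hom_ext _ _ fun U => ?_
  ext t
  refine TopCat.Presheaf.section_ext (C := Ab.{u}) (⟨F.presheaf, F.isSheaf⟩ : TopCat.Sheaf Ab X) U
    _ _ fun y hy => ?_
  have ha := fun (W : X.Opens) (hW : y ∈ W) m => OX.stalkPre_map_germ (DCoh.toP.map a) W hW m
  have hb := fun (W : X.Opens) (hW : y ∈ W) m => OX.stalkPre_map_germ (DCoh.toP.map b) W hW m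
  have htop := span_dOmega f y
    (LinearMap.eqLocus ((OX.stalk y).map a).hom ((OX.stalk y).map b).hom) fun W hW s =>
      (ha W hW _).trans ((congrArg (OX.germ (DCoh.toP.obj F) W hW) (h W s)).trans (hb W hW _).symm)
  have h1 : OX.germ (DCoh.toP.obj (Omega.sheaf f)) U hy t ∈
      LinearMap.eqLocus ((OX.stalk y).map a).hom ((OX.stalk y).map b).hom := htop ▸ Submodule.mem_top
  exact (ha U hy t).symm.trans (Eq.trans h1 (hb U hy t))

end GrothLib.PPGen
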