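import Groth.Agent.Lib.PPGen.Sections

/-!
# Differential operators kill the alternating sums
-/

set_option autoImplicit false
set_option linter.style.haveILetI false
set_option backward.isDefEq.respectTransparency false
set_option maxHeartbeats 800000

universe u

open CategoryTheory CategoryTheory.Limits AlgebraicGeometry Opposite
open GrothLib

noncomputable section

namespace GrothLib.PPGen

open PrinPart

variable {X S : Scheme.{u}} (f : X ⟶ S) (n : ℕ) (F G : X.Modules)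

/-- A section of `P^n(F)` as a section of the pullback over `pr₁⁻¹ U`. -/
abbrev dPull (U : X.Opens) (t : Γ(F, U)) :
    Γ((Scheme.Modules.pullback (pr2 f n)).obj F, pr1 f n ⁻¹ᵁ U) := dP f n F U t

theorem dPull_smul (U : X.Opens) (a : Γ(X, U)) (t : Γ(F, U)) :
    dPull f n F U (a • t) = pr2Fn f n U a • dPull f n F U t := by
  show dP f n F U (a • t) = _
  rw [dP_apply, OmegaSh.pullSect_smul, Scheme.Modules.map_smul]
  rfl

theorem alt_of_isDiffOpLE (D : F.presheaf ⟶ G.presheaf) (hD : IsDiffOpLE f F G n D)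
    (U : X.Opens) (a : Fin (n + 1) → Γ(X, U)) (t : Γ(F, U)) :
    (∑ H : Finset (Fin (n + 1)),
      ((-1 : ℤ) ^ H.card) • ((∏ i ∈ H, a i) • D.app (op U) ((∏ i ∈ Hᶜ, a i) • t))) = 0 := by
  classical
  obtain ⟨u, hu⟩ := hD
  simp only [hu]
  have h1 : ∀ H : Finset (Fin (n + 1)),
      ((-1 : ℤ) ^ H.card) • ((∏ i ∈ H, a i) • u.app U (dP f n F U ((∏ i ∈ Hᶜ, a i) • t))) =
        u.app U (((-1 : ℤ) ^ H.card) • ((∏ i ∈ H, a i) • dP f n F U ((∏ i ∈ Hᶜ, a i) • t))) := fun H => by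
    rw [map_zsmul, Scheme.Modules.Hom.app_smul]
  rw [Finset.sum_congr rfl fun H _ => h1 H, ← map_sum]
  refine Eq.trans (congrArg (u.app U) ?_) (map_zero (u.app U).hom)
  have h2 : ∀ H : Finset (Fin (n + 1)),
      (show Γ((Scheme.Modules.pullback (pr2 f n)).obj F, pr1 f n ⁻¹ᵁ U) from
        ((-1 : ℤ) ^ H.card) • ((∏ i ∈ H, a i) • dP f n F U ((∏ i ∈ Hᶜ, a i) • t))) =
      (((-1 : Γ(nbhd f n, pr1 f n ⁻¹ᵁ U)) ^ H.card * (∏ i ∈ H, pr1Fn f n U (a i))) *
        ∏ i ∈ Hᶜ, pr2Fn f n U (a i)) • dPull f n F U t := fun H => by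
    have h3 : dPull f n F U ((∏ i ∈ Hᶜ, a i) • t) =
        (∏ i ∈ Hᶜ, pr2Fn f n U (a i)) • dPull f n F U t := by
      rw [dPull_smul, map_prod]
    rw [mul_smul, mul_smul, ← h3, ← map_prod]
    rcases Nat.even_or_odd H.card with he | ho
    · rw [he.neg_one_pow, he.neg_one_pow, one_smul, one_smul]
      rfl
    · rw [ho.neg_one_pow, ho.neg_one_pow, neg_smul, neg_smul, one_smul, one_smul]
      rfl
  refine ((Finset.sum_congr rfl fun H _ => h2 H).trans ?_ :)
  refine (Finset.sum_smul (f := fun H : Finset (Fin (n + 1)) =>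
    ((-1 : Γ(nbhd f n, pr1 f n ⁻¹ᵁ U)) ^ H.card * ∏ i ∈ H, pr1Fn f n U (a i)) *
      ∏ i ∈ Hᶜ, pr2Fn f n U (a i))).symm.trans ?_
  have hsum : (∑ H : Finset (Fin (n + 1)),
      ((-1 : Γ(nbhd f n, pr1 f n ⁻¹ᵁ U)) ^ H.card * ∏ i ∈ H, pr1Fn f n U (a i)) *
        ∏ i ∈ Hᶜ, pr2Fn f n U (a i)) = 0 := by
    have hp := Finset.prod_add (fun i => -pr1Fn f n U (a i)) (fun i => pr2Fn f n U (a i))
      (Finset.univ : Finset (Fin (n + 1)))
    have hz : ∏ i, (-pr1Fn f n U (a i) + pr2Fn f n U (a i)) = 0 := by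
      have h4 : ∀ i, -pr1Fn f n U (a i) + pr2Fn f n U (a i) =
          -(pr1Fn f n U (a i) - pr2Fn f n U (a i)) := fun i => by ring
      rw [Finset.prod_congr rfl fun i _ => h4 i, Finset.prod_neg, prod_sub_eq_zero, mul_zero]
    rw [hz, Finset.powerset_univ] at hp
    rw [hp]
    refine Finset.sum_congr rfl fun H _ => ?_
    rw [Finset.prod_neg, Finset.compl_eq_univ_sdiff]
  exact (congrArg (· • dPull f n F U t) hsum).trans (zero_smul _ _)

theorem dP_base (V : S.Opens) (U : X.Opens) (hU : U ≤ f ⁻¹ᵁ V) (s : Γ(S, V)) (t : Γ(F, U)) :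
    dP f n F U (X.presheaf.map (homOfLE hU).op (f.app V s) • t) =
      X.presheaf.map (homOfLE hU).op (f.app V s) • dP f n F U t := by
  refine (dPull_smul f n F U _ t).trans ?_
  rw [← pr1Fn_base]
  rfl

theorem linear_of_isDiffOpLE (D : F.presheaf ⟶ G.presheaf) (hD : IsDiffOpLE f F G n D)
    (V : S.Opens) (s : Γ(S, V)) (U : X.Opens) (hU : U ≤ f ⁻¹ᵁ V) (t : Γ(F, U)) :
    D.app (op U) (X.presheaf.map (homOfLE hU).op (f.app V s) • t) =
      X.presheaf.map (homOfLE hU).op (f.app V s) • D.app (op U) t := by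
  obtain ⟨u, hu⟩ := hD
  rw [hu, hu, dP_base, Scheme.Modules.Hom.app_smul]

end GrothLib.PPGen
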