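import Mathlib.RingTheory.Kaehler.Basic
import Mathlib.Algebra.BigOperators.Ring.Finset

/-!
# The algebra of differential operators

For modules `M, M'` over an `A`-algebra `R` and an `A`-linear `D : M → M'`, the ring `R ⊗[A] R` acts on `D` by
`(p ⊗ q) D = p • D (q • ·)`; `D` has order `< k` when the `k`-th power of the diagonal ideal kills it.
-/

set_option autoImplicit false

open scoped TensorProduct

noncomputable section

namespace GrothLib.PPGen.Alg

universe u v w w'

variable {A : Type u} {R : Type v} [CommRing A] [CommRing R] [Algebra A R]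
variable {M : Type w} [AddCommGroup M] [Module R M] [Module A M] [IsScalarTower A R M]
variable {M' : Type w'} [AddCommGroup M'] [Module R M'] [Module A M'] [IsScalarTower A R M']

/-- The action of `R ⊗[A] R` on an `A`-linear map. -/
def phi (D : M →ₗ[A] M') : R ⊗[A] R →ₗ[A] (M →ₗ[A] M') :=
  TensorProduct.lift (LinearMap.mk₂ A (fun p q : R =>
      (Algebra.lsmul A A M' p).comp (D.comp (Algebra.lsmul A A M q)))
    (fun p p' q => LinearMap.ext fun t => add_smul p p' (D (q • t)))
    (fun c p q => LinearMap.ext fun t => smul_assoc c p (D (q • t)))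
    (fun p q q' => LinearMap.ext fun t => by
      show p • D ((q + q') • t) = p • D (q • t) + p • D (q' • t)
      rw [add_smul, map_add, smul_add])
    (fun c p q => LinearMap.ext fun t => by
      show p • D ((c • q) • t) = c • p • D (q • t)
      rw [smul_assoc, map_smul, smul_comm p c]))

theorem phi_tmul (D : M →ₗ[A] M') (p q : R) (t : M) : phi D (p ⊗ₜ[A] q) t = p • D (q • t) := rfl

theorem phi_one (D : M →ₗ[A] M') : phi D (1 : R ⊗[A] R) = D :=
  LinearMap.ext fun t => by
    show (1 : R) • D ((1 : R) • t) = D t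
    rw [one_smul, one_smul]

theorem phi_phi (D : M →ₗ[A] M') (c c' : R ⊗[A] R) : phi (phi D c') c = phi D (c * c') := by
  induction c using TensorProduct.induction_on with
  | zero => rw [zero_mul, map_zero, map_zero]
  | tmul p q =>
    ext t
    rw [phi_tmul]
    induction c' using TensorProduct.induction_on with
    | zero => simp
    | tmul p' q' =>
      rw [phi_tmul, Algebra.TensorProduct.tmul_mul_tmul, phi_tmul, mul_smul, mul_comm q q', mul_smul]
    | add a b ha hb => rw [map_add, LinearMap.add_apply, smul_add, ha, hb, mul_add, map_add, LinearMap.add_apply]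
  | add a b ha hb => rw [map_add, ha, hb, add_mul, map_add]

theorem phi_left (D : M →ₗ[A] M') (p : R) (c : R ⊗[A] R) (t : M) :
    phi D ((p ⊗ₜ[A] 1) * c) t = p • phi D c t := by
  rw [← phi_phi, phi_tmul, one_smul]

theorem phi_right (D : M →ₗ[A] M') (q : R) (c : R ⊗[A] R) (t : M) :
    phi D (c * ((1 : R) ⊗ₜ[A] q)) t = phi D c (q • t) := by
  induction c using TensorProduct.induction_on with
  | zero => simp
  | tmul p q' => rw [Algebra.TensorProduct.tmul_mul_tmul, mul_one, phi_tmul, phi_tmul, mul_smul]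
  | add a b ha hb => rw [add_mul, map_add, map_add, LinearMap.add_apply, LinearMap.add_apply, ha, hb]

variable (A) in
/-- `1 ⊗ a - a ⊗ 1`. -/
def delta (a : R) : R ⊗[A] R := (1 : R) ⊗ₜ[A] a - a ⊗ₜ[A] (1 : R)

theorem prod_delta {ι : Type*} [DecidableEq ι] (s : Finset ι) (a : ι → R) :
    ∏ i ∈ s, delta A (a i) =
      ∑ H ∈ s.powerset, ((-1 : ℤ) ^ H.card) • ((∏ i ∈ H, a i) ⊗ₜ[A] (∏ i ∈ s \ H, a i)) := by
  let i₁ : R →+* R ⊗[A] R := Algebra.TensorProduct.includeLeftRingHom
  let i₂ : R →+* R ⊗[A] R := (Algebra.TensorProduct.includeRight : R →ₐ[A] R ⊗[A] R).toRingHom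
  have hp : ∀ H G : Finset ι, ((∏ i ∈ H, a i) ⊗ₜ[A] (∏ i ∈ G, a i)) =
      (∏ i ∈ H, i₁ (a i)) * ∏ i ∈ G, i₂ (a i) := fun H G => by
    rw [← map_prod, ← map_prod]
    show _ = ((∏ i ∈ H, a i) ⊗ₜ[A] (1 : R)) * ((1 : R) ⊗ₜ[A] (∏ i ∈ G, a i))
    rw [Algebra.TensorProduct.tmul_mul_tmul, mul_one, one_mul]
  have h0 : ∀ i, delta A (a i) = -i₁ (a i) + i₂ (a i) := fun i => by
    show _ = -(a i ⊗ₜ[A] (1 : R)) + (1 : R) ⊗ₜ[A] a i
    rw [delta]; abel
  rw [Finset.prod_congr rfl (fun i _ => h0 i), Finset.prod_add]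
  refine Finset.sum_congr rfl fun H _ => ?_
  rw [hp, zsmul_eq_mul, Finset.prod_neg, Int.cast_pow, Int.cast_neg, Int.cast_one, mul_assoc]

theorem phi_prod_delta {k : ℕ} (D : M →ₗ[A] M') (a : Fin k → R) (t : M) :
    phi D (∏ i, delta A (a i)) t =
      ∑ H : Finset (Fin k), ((-1 : ℤ) ^ H.card) • ((∏ i ∈ H, a i) • D ((∏ i ∈ Hᶜ, a i) • t)) := by
  rw [prod_delta, map_sum, LinearMap.sum_apply, Finset.powerset_univ]
  refine Finset.sum_congr rfl fun H _ => ?_
  rw [map_zsmul, LinearMap.smul_apply, phi_tmul, Finset.compl_eq_univ_sdiff]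

/-- `D` has order `< k`. -/
def IsOrd (k : ℕ) (D : M →ₗ[A] M') : Prop :=
  ∀ c ∈ (KaehlerDifferential.ideal A R) ^ k, phi D c = 0

theorem isOrd_zero {D : M →ₗ[A] M'} : IsOrd (R := R) 0 D ↔ D = 0 := by
  constructor
  · intro h
    have h1 := h 1 (by rw [pow_zero, Ideal.one_eq_top]; exact Submodule.mem_top)
    rwa [phi_one] at h1
  · rintro rfl c -
    ext t
    induction c using TensorProduct.induction_on with
    | zero => simp
    | tmul p q => rw [phi_tmul]; simp
    | add a b ha hb => rw [map_add, LinearMap.add_apply, ha, hb]; simp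

theorem isOrd_succ {k : ℕ} {D : M →ₗ[A] M'} :
    IsOrd (R := R) (k + 1) D ↔ ∀ a : R, IsOrd (R := R) k (phi D (delta A a)) := by
  constructor
  · intro h a c hc
    rw [phi_phi]
    refine h _ ?_
    rw [pow_succ]
    exact Ideal.mul_mem_mul hc (KaehlerDifferential.one_smul_sub_smul_one_mem_ideal A a)
  · intro h c hc
    rw [pow_succ] at hc
    refine Submodule.mul_induction_on hc (fun x hx y hy => ?_) (fun x y hx hy => by rw [map_add, hx, hy, add_zero])
    rw [← KaehlerDifferential.span_range_eq_ideal] at hy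
    induction hy using Submodule.span_induction generalizing x with
    | mem y hy =>
      obtain ⟨a, rfl⟩ := hy
      rw [← phi_phi]
      exact h a x hx
    | zero => rw [mul_zero, map_zero]
    | add y y' _ _ h1 h2 => rw [mul_add, map_add, h1 x hx, h2 x hx, add_zero]
    | smul e y _ h1 =>
      rw [smul_eq_mul, ← mul_assoc]
      exact h1 (x * e) (Ideal.mul_mem_right e _ hx)

theorem isOrd_of_alt : ∀ {k : ℕ} {D : M →ₗ[A] M'},
    (∀ a : Fin k → R, phi D (∏ i, delta A (a i)) = 0) → IsOrd (R := R) k D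
  | 0, D, h => by
    have h1 := h Fin.elim0
    rw [Fin.prod_univ_zero, phi_one] at h1
    exact isOrd_zero.2 h1
  | k + 1, D, h => isOrd_succ.2 fun a => isOrd_of_alt fun b => by
    rw [phi_phi, mul_comm]
    have h1 := h (Fin.cons a b)
    rw [Fin.prod_univ_succ] at h1
    simpa using h1

theorem alt_of_isOrd {k : ℕ} {D : M →ₗ[A] M'} (h : IsOrd (R := R) k D) (a : Fin k → R) :
    phi D (∏ i, delta A (a i)) = 0 := by
  refine h _ ?_
  have h1 : ∏ i, delta A (a i) ∈ ∏ _i : Fin k, KaehlerDifferential.ideal A R :=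
    Ideal.prod_mem_prod fun i _ => KaehlerDifferential.one_smul_sub_smul_one_mem_ideal A (a i)
  rwa [Finset.prod_const, Finset.card_univ, Fintype.card_fin] at h1

theorem isOrd_add {k : ℕ} {D E : M →ₗ[A] M'} (hD : IsOrd (R := R) k D) (hE : IsOrd (R := R) k E) :
    IsOrd (R := R) k (D + E) := by
  intro c hc
  have h : ∀ c, phi (R := R) (D + E) c = phi D c + phi E c := fun c => by
    clear hc
    ext t
    induction c using TensorProduct.induction_on with
    | zero => simp
    | tmul p q => simp only [phi_tmul, LinearMap.add_apply, smul_add]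
    | add a b ha hb =>
      simp only [map_add, LinearMap.add_apply] at ha hb ⊢
      rw [ha, hb]; abel
  rw [h c, hD c hc, hE c hc, add_zero]

universe w''

variable {M'' : Type w''} [AddCommGroup M''] [Module R M''] [Module A M''] [IsScalarTower A R M'']

theorem phi_comp (D : M →ₗ[A] M') (D' : M' →ₗ[A] M'') (a : R) :
    phi (D'.comp D) (delta A a) = (phi D' (delta A a)).comp D + D'.comp (phi D (delta A a)) := by
  ext t
  simp only [delta, map_sub, LinearMap.sub_apply, LinearMap.comp_apply, LinearMap.add_apply, phi_tmul,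
    one_smul]
  abel

theorem isOrd_comp : ∀ (N p q : ℕ), p + q = N + 1 → ∀ (D : M →ₗ[A] M') (D' : M' →ₗ[A] M''),
    IsOrd (R := R) p D → IsOrd (R := R) q D' → IsOrd (R := R) N (D'.comp D)
  | 0, p, q, h, D, D', hD, hD' => by
    obtain ⟨rfl, rfl⟩ | ⟨rfl, rfl⟩ : (p = 0 ∧ q = 1) ∨ (p = 1 ∧ q = 0) := by omega
    · rw [isOrd_zero.1 hD, LinearMap.comp_zero]; exact isOrd_zero.2 rfl
    · rw [isOrd_zero.1 hD', LinearMap.zero_comp]; exact isOrd_zero.2 rfl
  | N + 1, p, q, h, D, D', hD, hD' => isOrd_succ.2 fun a => by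
    rw [phi_comp]
    refine isOrd_add ?_ ?_
    · rcases q with _ | q
      · have h0 : phi (R := R) D' (delta A a) = 0 := by
          rw [isOrd_zero.1 hD']; ext t
          simp [delta, map_sub, phi_tmul]
        rw [h0, LinearMap.zero_comp]
        intro c _
        exact (isOrd_zero.2 rfl) c (by rw [pow_zero, Ideal.one_eq_top]; exact Submodule.mem_top)
      · exact isOrd_comp N p q (by omega) D _ hD (isOrd_succ.1 hD' a)
    · rcases p with _ | p
      · have h0 : phi (R := R) D (delta A a) = 0 := by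
          rw [isOrd_zero.1 hD]; ext t
          simp [delta, map_sub, phi_tmul]
        rw [h0, LinearMap.comp_zero]
        intro c _
        exact (isOrd_zero.2 rfl) c (by rw [pow_zero, Ideal.one_eq_top]; exact Submodule.mem_top)
      · exact isOrd_comp N p q (by omega) _ D' (isOrd_succ.1 hD a) hD'

end GrothLib.PPGen.Alg
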