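import Groth.Agent.Lib.PPGen.Ring
import Groth.Agent.Lib.CurveMult.OmegaGen

/-!
# Sheaves of principal parts are generated by the canonical operator

Locally every section of `P^n_{X/S}(F)` is a combination of sections `a • d^n t`.
-/

set_option autoImplicit false
set_option linter.style.haveILetI false
set_option backward.isDefEq.respectTransparency false
set_option maxHeartbeats 800000

universe u

open CategoryTheory CategoryTheory.Limits AlgebraicGeometry Opposite
open GrothLib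

noncomputable section

namespace GrothLib.PPGen

open PrinPart

variable {X S : Scheme.{u}} (f : X ⟶ S) (n : ℕ)

theorem pr1_toNbhd_apply (x : X) : pr1 f n (toNbhd f n x) = x := by
  rw [← Scheme.Hom.comp_apply, toNbhd_pr1]; rfl

theorem pr2_toNbhd_apply (x : X) : pr2 f n (toNbhd f n x) = x := by
  rw [← Scheme.Hom.comp_apply, toNbhd_pr2]; rfl

theorem toNbhd_pr1_apply (y : nbhd f n) : toNbhd f n (pr1 f n y) = y := by
  obtain ⟨x, rfl⟩ := toInfNbhd_surjective (diagCl f) n y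
  exact congrArg _ (pr1_toNbhd_apply f n x)

theorem preimage_pr1_le {V : X.Opens} {W : (nbhd f n).Opens} (h : V ≤ toNbhd f n ⁻¹ᵁ W) :
    pr1 f n ⁻¹ᵁ V ≤ W := fun y hy => by
  have h1 : toNbhd f n (pr1 f n y) ∈ W := h hy
  rwa [toNbhd_pr1_apply] at h1

variable (F : X.Modules)

/-- Local induction on sections of principal parts. -/
theorem exists_mem_of_generators (K : ∀ V : X.Opens, AddSubgroup Γ(PMod f n F, V))
    (hres : ∀ (V W : X.Opens) (e : W ≤ V) (s : Γ(PMod f n F, V)), s ∈ K V →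
      (PMod f n F).presheaf.map (homOfLE e).op s ∈ K W)
    (hgen : ∀ (V : X.Opens) (a : Γ(X, V)) (t : Γ(F, V)), a • dP f n F V t ∈ K V)
    (U : X.Opens) (s : Γ(PMod f n F, U)) (x : X) (hx : x ∈ U) :
    ∃ (V : X.Opens) (e : V ≤ U), x ∈ V ∧ (PMod f n F).presheaf.map (homOfLE e).op s ∈ K V := by
  let z := toNbhd f n x
  let M := (Scheme.Modules.pullback (pr2 f n)).obj F
  have hz : ∀ {V : X.Opens}, x ∈ V → z ∈ pr1 f n ⁻¹ᵁ V := fun {V} h => by
    show pr1 f n (toNbhd f n x) ∈ V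
    rwa [pr1_toNbhd_apply]
  let T : AddSubgroup (OX.stalkObj z (DCoh.toP.obj M)) :=
    { carrier := {ξ | ∃ (V : X.Opens) (h : x ∈ V) (s : Γ(PMod f n F, V)), s ∈ K V ∧
        OX.germ (DCoh.toP.obj M) (pr1 f n ⁻¹ᵁ V) (hz h) s = ξ}
      zero_mem' := ⟨⊤, trivial, 0, (K ⊤).zero_mem, map_zero _⟩
      add_mem' := by
        rintro _ _ ⟨V, h, a, ha, rfl⟩ ⟨V', h', b, hb, rfl⟩
        refine ⟨V ⊓ V', ⟨h, h'⟩, _,
          (K _).add_mem (hres V _ inf_le_left a ha) (hres V' _ inf_le_right b hb), ?_⟩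
        refine (map_add (OX.germ (DCoh.toP.obj M) (pr1 f n ⁻¹ᵁ (V ⊓ V')) (hz ⟨h, h'⟩)) _ _).trans
          (congrArg₂ (· + ·) ?_ ?_) <;> exact OX.germ_map (DCoh.toP.obj M) _ _ _
      neg_mem' := by
        rintro _ ⟨V, h, a, ha, rfl⟩
        exact ⟨V, h, -a, (K V).neg_mem ha, map_neg _ _⟩ }
  let T' : Submodule ((nbhd f n).presheaf.stalk z) (OX.stalkObj z (DCoh.toP.obj M)) :=
    { carrier := {ξ | ∀ r : (nbhd f n).presheaf.stalk z, r • ξ ∈ T}
      zero_mem' := fun r => by rw [smul_zero]; exact T.zero_mem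
      add_mem' := fun {a b} ha hb r => by rw [smul_add]; exact T.add_mem (ha r) (hb r)
      smul_mem' := fun c a ha r => by rw [smul_smul]; exact ha _ }
  have htop : T' = ⊤ := by
    refine CurveMult.OmegaGen.span_pull (pr2 f n) F z T' fun U₁ hU₁ m r => ?_
    have hr : r ∈ AddSubgroup.closure (Set.range fun ab : X.presheaf.stalk (pr1 f n z) ×
        X.presheaf.stalk (pr2 f n z) =>
      (pr1 f n).stalkMap z ab.1 * (pr2 f n).stalkMap z ab.2) :=
      (closure_stalk_eq_top f n x).symm ▸ AddSubgroup.mem_top r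
    induction hr using AddSubgroup.closure_induction with
    | zero => rw [zero_smul]; exact T.zero_mem
    | add _ _ _ _ h h' => rw [add_smul]; exact T.add_mem h h'
    | neg _ _ h => rw [neg_smul]; exact T.neg_mem h
    | mem r hr =>
      obtain ⟨⟨a, b⟩, rfl⟩ := hr
      obtain ⟨Va, hVa, a, rfl⟩ := X.presheaf.exists_germ_eq a
      obtain ⟨Vb, hVb, b, rfl⟩ := X.presheaf.exists_germ_eq b
      let V := Va ⊓ Vb ⊓ U₁
      have hxV : x ∈ V := ⟨⟨(pr1_toNbhd_apply f n x) ▸ hVa, (pr2_toNbhd_apply f n x) ▸ hVb⟩,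
        (pr2_toNbhd_apply f n x) ▸ hU₁⟩
      have ea : V ≤ Va := inf_le_left.trans inf_le_left
      have eb : V ≤ Vb := inf_le_left.trans inf_le_right
      have eU : V ≤ U₁ := inf_le_right
      refine ⟨V, hxV, _, hgen V (X.presheaf.map (homOfLE ea).op a)
        ((X.presheaf.map (homOfLE eb).op b) • F.presheaf.map (homOfLE eU).op m), ?_⟩
      have hz2 : z ∈ pr2 f n ⁻¹ᵁ V := by
        show pr2 f n (toNbhd f n x) ∈ V
        rwa [pr2_toNbhd_apply]
      show OX.germ (DCoh.toP.obj M) (pr1 f n ⁻¹ᵁ V) (hz hxV)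
          ((pr1 f n).app V (X.presheaf.map (homOfLE ea).op a) •
            (show (DCoh.toP.obj M).obj (op (pr1 f n ⁻¹ᵁ V)) from dP f n F V _)) =
          ((pr1 f n).stalkMap z _ * (pr2 f n).stalkMap z _) • _
      rw [OX.germ_smul', ← Scheme.Hom.germ_stalkMap_apply, TopCat.Presheaf.germ_res_apply,
        mul_smul]
      refine congrArg ((pr1 f n).stalkMap z (X.presheaf.germ Va (pr1 f n z) hVa a) • ·) ?_
      refine (OX.germ_map (DCoh.toP.obj M) (homOfLE (preimage_pr1 f n V).le) (hz hxV) _).trans ?_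
      refine (congrArg (OX.germ (DCoh.toP.obj M) (pr2 f n ⁻¹ᵁ V) hz2)
        (OmegaSh.pullSect_smul (pr2 f n) F V _ _)).trans ?_
      refine (OX.germ_smul' (DCoh.toP.obj M) (pr2 f n ⁻¹ᵁ V) hz2 _ _).trans ?_
      rw [← Scheme.Hom.germ_stalkMap_apply, TopCat.Presheaf.germ_res_apply]
      refine congrArg ((pr2 f n).stalkMap z (X.presheaf.germ Vb (pr2 f n z) hVb b) • ·) ?_
      refine (congrArg (OX.germ (DCoh.toP.obj M) (pr2 f n ⁻¹ᵁ V) hz2)
        (OmegaSh.pullSect_map (pr2 f n) F eU m)).trans ?_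
      exact OX.germ_map (DCoh.toP.obj M) _ _ _
  have hmem : OX.germ (DCoh.toP.obj M) (pr1 f n ⁻¹ᵁ U) (hz hx) s ∈ T := by
    have h1 : OX.germ (DCoh.toP.obj M) (pr1 f n ⁻¹ᵁ U) (hz hx) s ∈ T' := by
      rw [htop]; exact Submodule.mem_top
    simpa only [one_smul] using h1 1
  obtain ⟨V, hxV, s', hs', he⟩ := hmem
  obtain ⟨W, hzW, i₁, i₂, heq⟩ := TopCat.Presheaf.germ_eq (C := Ab.{u})
    (OX.prs (DCoh.toP.obj M)) z (hz hxV) (hz hx) s' s he
  refine ⟨(toNbhd f n ⁻¹ᵁ W) ⊓ U ⊓ V, inf_le_left.trans inf_le_right,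
    ⟨⟨hzW, hx⟩, hxV⟩, ?_⟩
  have h2 := hres V ((toNbhd f n ⁻¹ᵁ W) ⊓ U ⊓ V) inf_le_right s' hs'
  refine (congrArg (· ∈ K _) ?_).mp h2
  have e : pr1 f n ⁻¹ᵁ ((toNbhd f n ⁻¹ᵁ W) ⊓ U ⊓ V) ≤ W :=
    preimage_pr1_le f n (inf_le_left.trans inf_le_left)
  refine ((OmegaSh.resM_resM i₁ (homOfLE e) s').symm.trans ?_).trans
    (OmegaSh.resM_resM i₂ (homOfLE e) s)
  exact congrArg (M.presheaf.map (homOfLE e).op) heq

/-- The `O_X`-linear maps out of principal parts are determined by their values on `d^n t`. -/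
theorem hom_ext_dP {G : X.Modules} (a b : PMod f n F ⟶ G)
    (h : ∀ (U : X.Opens) (t : Γ(F, U)), a.app U (dP f n F U t) = b.app U (dP f n F U t)) :
    a = b := by
  let K : ∀ V : X.Opens, AddSubgroup Γ(PMod f n F, V) := fun V =>
    (a.app V).hom.eqLocus (b.app V).hom
  have natr : ∀ (c : PMod f n F ⟶ G) (V W : X.Opens) (e : W ≤ V) (s : Γ(PMod f n F, V)),
      c.app W ((PMod f n F).presheaf.map (homOfLE e).op s) =
        G.presheaf.map (homOfLE e).op (c.app V s) :=
    fun c V W e s => congr($((Scheme.Modules.Hom.mapPresheaf c).naturality (homOfLE e).op) s)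
  refine Scheme.Modules.hom_ext _ _ fun U => ?_
  ext s
  refine TopCat.Presheaf.section_ext (C := Ab.{u}) (⟨G.presheaf, G.isSheaf⟩ : TopCat.Sheaf Ab X) U
    _ _ fun x hx => ?_
  obtain ⟨V, e, hxV, hV⟩ := exists_mem_of_generators f n F K
    (fun V W e s hs => (natr a V W e s).trans ((congrArg _ hs).trans (natr b V W e s).symm))
    (fun V r t => by
      show a.app V (r • dP f n F V t) = b.app V (r • dP f n F V t)
      rw [Scheme.Modules.Hom.app_smul, Scheme.Modules.Hom.app_smul, h])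
    U s x hx
  have h3 : G.presheaf.map (homOfLE e).op (a.app U s) = G.presheaf.map (homOfLE e).op (b.app U s) :=
    (natr a U V e s).symm.trans (Eq.trans hV (natr b U V e s))
  have h4 := congrArg (TopCat.Presheaf.germ G.presheaf V x hxV) h3
  rw [TopCat.Presheaf.germ_res_apply, TopCat.Presheaf.germ_res_apply] at h4
  exact h4

end GrothLib.PPGen
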