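import Groth.Agent.Lib.PPGen.Stalk
import Groth.Agent.Lib.PPGen.Alg
import Groth.Agent.Lib.PPGen.Gen
import Groth.Agent.Lib.CurveMult.OmegaGen

/-!
# Maps out of principal parts from differential operators
-/

set_option autoImplicit false
set_option linter.style.haveILetI false
set_option backward.isDefEq.respectTransparency false
set_option maxHeartbeats 1200000

universe u

open CategoryTheory CategoryTheory.Limits AlgebraicGeometry Opposite
open scoped TensorProduct
open GrothLib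

noncomputable section

namespace GrothLib.PPGen

open PrinPart

section Pairing

variable {A B C : Type u} [CommRing A] [CommRing B] [CommRing C] [Algebra A B]
variable {M : Type u} [AddCommGroup M] [Module B M] [Module A M] [IsScalarTower A B M]
variable {M' : Type u} [AddCommGroup M'] [Module B M'] [Module A M'] [IsScalarTower A B M']

/-- The pairing attached to an operator of finite order. -/
theorem exists_pairing {k : ℕ} (L R : B →+* C)
    (θ : C →+* (B ⊗[A] B) ⧸ (KaehlerDifferential.ideal A B) ^ k)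
    (hθ : ∀ b, θ (L b) = Ideal.Quotient.mk _ (b ⊗ₜ 1) ∧ θ (R b) = Ideal.Quotient.mk _ (1 ⊗ₜ b))
    (D : M →ₗ[A] M') (hD : Alg.IsOrd (R := B) k D) :
    ∃ γ : C →+ (M →+ M'), (∀ t, γ 1 t = D t) ∧ (∀ b r t, γ (L b * r) t = b • γ r t) ∧
      ∀ b r t, γ (R b * r) t = γ r (b • t) := by
  choose c hc using fun r : C => Ideal.Quotient.mk_surjective (θ r)
  have spec : ∀ (r : C) (e : B ⊗[A] B), Ideal.Quotient.mk _ e = θ r → Alg.phi D (c r) = Alg.phi D e := by
    intro r e he
    rw [← sub_eq_zero, ← map_sub]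
    exact hD _ (Ideal.Quotient.eq.1 ((hc r).trans he.symm))
  let γ : C →+ (M →+ M') := AddMonoidHom.mk' (fun r => (Alg.phi D (c r)).toAddMonoidHom) fun r r' => by
    rw [spec (r + r') (c r + c r') (by rw [map_add, map_add, hc, hc]), map_add]
    rfl
  refine ⟨γ, fun t => ?_, fun b r t => ?_, fun b r t => ?_⟩
  · show Alg.phi D (c 1) t = D t
    rw [spec 1 1 (by rw [map_one, map_one]), Alg.phi_one]
  · show Alg.phi D (c (L b * r)) t = b • Alg.phi D (c r) t
    rw [spec (L b * r) ((b ⊗ₜ 1) * c r) (by rw [map_mul, map_mul, hc, (hθ b).1]), Alg.phi_left]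
  · show Alg.phi D (c (R b * r)) t = Alg.phi D (c r) (b • t)
    rw [spec (R b * r) (c r * (1 ⊗ₜ b)) (by rw [map_mul, map_mul, hc, (hθ b).2, mul_comm]), Alg.phi_right]

end Pairing

variable {X S : Scheme.{u}} (f : X ⟶ S) (F G : X.Modules) (n : ℕ)

/-- An alternating sum condition lets an operator act on the stalks of principal parts. -/
theorem exists_stalk_hom (D : F.presheaf ⟶ G.presheaf)
    (hlin : ∀ (V : S.Opens) (s : Γ(S, V)) (U : X.Opens) (hU : U ≤ f ⁻¹ᵁ V) (t : Γ(F, U)),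
      D.app (op U) (X.presheaf.map (homOfLE hU).op (f.app V s) • t) =
        X.presheaf.map (homOfLE hU).op (f.app V s) • D.app (op U) t)
    (halt : ∀ (U : X.Opens) (a : Fin (n + 1) → Γ(X, U)) (t : Γ(F, U)),
        (∑ H : Finset (Fin (n + 1)),
          ((-1 : ℤ) ^ H.card) • ((∏ i ∈ H, a i) • D.app (op U) ((∏ i ∈ Hᶜ, a i) • t))) = 0)
    (z : nbhd f n) :
    ∃ u : OX.stalkObj z (DCoh.toP.obj ((Scheme.Modules.pullback (pr2 f n)).obj F)) →+
        OX.stalkObj (pr2 f n z) (DCoh.toP.obj G),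
      (∀ (b : X.presheaf.stalk (pr2 f n z)) ξ, u (stalkL f n z b • ξ) = b • u ξ) ∧
      ∀ (U : X.Opens) (hz : z ∈ pr2 f n ⁻¹ᵁ U) (t : Γ(F, U)),
        u (OX.germ (DCoh.toP.obj ((Scheme.Modules.pullback (pr2 f n)).obj F)) (pr2 f n ⁻¹ᵁ U) hz
            (OX.pullSec (pr2 f n) F U t)) =
          OX.germ (DCoh.toP.obj G) U hz (D.app (op U) t) := by
  classical
  let y := pr2 f n z
  let A0 := S.presheaf.stalk (f y)
  let B0 := X.presheaf.stalk y
  letI : Algebra A0 B0 := (f.stalkMap y).hom.toAlgebra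
  let Fy := OX.stalkObj y (DCoh.toP.obj F)
  let Gy := OX.stalkObj y (DCoh.toP.obj G)
  letI : Module A0 Fy := Module.compHom Fy (algebraMap A0 B0)
  letI : Module A0 Gy := Module.compHom Gy (algebraMap A0 B0)
  haveI : IsScalarTower A0 B0 Fy := ⟨fun a b m => by
    show (algebraMap A0 B0 a * b) • m = algebraMap A0 B0 a • b • m
    exact mul_smul _ _ _⟩
  haveI : IsScalarTower A0 B0 Gy := ⟨fun a b m => by
    show (algebraMap A0 B0 a * b) • m = algebraMap A0 B0 a • b • m
    exact mul_smul _ _ _⟩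
  let Ds₀ : Fy →+ Gy := ((TopCat.Presheaf.stalkFunctor Ab.{u} (X := X.carrier) y).map D).hom
  have hDs : ∀ (U : X.Opens) (hy : y ∈ U) (t : Γ(F, U)),
      Ds₀ (OX.germ (DCoh.toP.obj F) U hy t) = OX.germ (DCoh.toP.obj G) U hy (D.app (op U) t) :=
    fun U hy t => TopCat.Presheaf.stalkFunctor_map_germ_apply (F := F.presheaf) (G := G.presheaf) U y hy D t
  let Ds : Fy →ₗ[A0] Gy :=
    { Ds₀ with
      map_smul' := fun a m => by
        obtain ⟨V, hV, s, rfl⟩ := S.presheaf.exists_germ_eq a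
        obtain ⟨U, hy, t, rfl⟩ := OX.germ_exists (DCoh.toP.obj F) m
        let U' := U ⊓ f ⁻¹ᵁ V
        have hy' : y ∈ U' := ⟨hy, hV⟩
        have hsc : algebraMap A0 B0 (S.presheaf.germ V (f y) hV s) =
            X.presheaf.germ U' y hy' (X.presheaf.map (homOfLE (inf_le_right : U' ≤ f ⁻¹ᵁ V)).op (f.app V s)) := by
          rw [TopCat.Presheaf.germ_res_apply]
          exact Scheme.Hom.germ_stalkMap_apply f V y hV s
        show Ds₀ (algebraMap A0 B0 (S.presheaf.germ V (f y) hV s) • OX.germ (DCoh.toP.obj F) U hy t) =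
          algebraMap A0 B0 (S.presheaf.germ V (f y) hV s) • Ds₀ (OX.germ (DCoh.toP.obj F) U hy t)
        rw [hsc, ← OX.germ_map (DCoh.toP.obj F) (homOfLE (inf_le_left : U' ≤ U)) hy' t, ← OX.germ_smul',
          hDs, hDs, ← OX.germ_smul']
        exact congrArg _ (hlin V s U' inf_le_right _) }
  have hord : Alg.IsOrd (R := B0) (n + 1) Ds := Alg.isOrd_of_alt fun b => LinearMap.ext fun m => by
    rw [Alg.phi_prod_delta, LinearMap.zero_apply]
    choose V hV a ha using fun i => X.presheaf.exists_germ_eq (b i)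
    obtain ⟨U, hy, t, rfl⟩ := OX.germ_exists (DCoh.toP.obj F) m
    let W : X.Opens := ⟨(U : Set X) ∩ ⋂ i, (V i : Set X), U.2.inter (isOpen_iInter_of_finite fun i => (V i).2)⟩
    have hyW : y ∈ W := ⟨hy, Set.mem_iInter.2 hV⟩
    have eU : W ≤ U := fun w hw => hw.1
    have eV : ∀ i, W ≤ V i := fun i w hw => Set.mem_iInter.1 hw.2 i
    let a' : Fin (n + 1) → Γ(X, W) := fun i => X.presheaf.map (homOfLE (eV i)).op (a i)
    let t' : Γ(F, W) := F.presheaf.map (homOfLE eU).op t
    have hb : ∀ i, X.presheaf.germ W y hyW (a' i) = b i := fun i =>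
      (TopCat.Presheaf.germ_res_apply X.presheaf _ _ _ _).trans (ha i)
    have ht : OX.germ (DCoh.toP.obj F) W hyW t' = OX.germ (DCoh.toP.obj F) U hy t :=
      OX.germ_map (DCoh.toP.obj F) _ _ _
    have h0 := congrArg (OX.germ (DCoh.toP.obj G) W hyW) (halt W a' t')
    refine Eq.trans ?_ (h0.trans (map_zero _))
    refine Eq.trans ?_ (map_sum (OX.germ (DCoh.toP.obj G) W hyW) _ _).symm
    refine Finset.sum_congr rfl fun H _ => ?_
    refine Eq.trans ?_ (map_zsmul (OX.germ (DCoh.toP.obj G) W hyW) _ _).symm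
    refine congrArg (((-1 : ℤ) ^ H.card) • ·) ?_
    refine Eq.trans ?_ (OX.germ_smul' (DCoh.toP.obj G) W hyW _ _).symm
    refine congrArg₂ (· • ·) ?_ ?_
    · rw [map_prod]
      exact Finset.prod_congr rfl fun i _ => (hb i).symm
    · refine Eq.trans ?_ (hDs W hyW _)
      refine congrArg Ds₀ ?_
      refine Eq.trans ?_ (OX.germ_smul' (DCoh.toP.obj F) W hyW _ _).symm
      refine congrArg₂ (· • ·) ?_ ht.symm
      rw [map_prod]
      exact Finset.prod_congr rfl fun i _ => (hb i).symm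
  obtain ⟨θ, hθ⟩ := exists_theta f n z
  obtain ⟨γ, hγ1, hγL, hγR⟩ := exists_pairing (stalkL f n z) ((pr2 f n).stalkMap z).hom θ hθ Ds hord
  letI : Algebra B0 ((nbhd f n).presheaf.stalk z) := ((pr2 f n).stalkMap z).hom.toAlgebra
  let T : (nbhd f n).presheaf.stalk z ⊗[B0] Fy →+ Gy :=
    TensorProduct.liftAddHom γ fun b r m => hγR b r m
  let e := ((OX.pullStalkIso (pr2 f n) z).app F).toLinearEquiv
  refine ⟨T.comp e.toLinearMap.toAddMonoidHom, fun b ξ => ?_, fun U hz t => ?_⟩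
  · show T (e (stalkL f n z b • ξ)) = b • T (e ξ)
    rw [map_smul]
    generalize e ξ = w
    induction w using TensorProduct.induction_on with
    | zero =>
      have h1 : T (stalkL f n z b • (0 : (nbhd f n).presheaf.stalk z ⊗[B0] Fy)) = b • T 0 := by
        rw [smul_zero, map_zero, smul_zero]
      exact h1
    | tmul r m => exact hγL b r m
    | add v w hv hw =>
      have h1 : ∀ v w : (nbhd f n).presheaf.stalk z ⊗[B0] Fy,
          T (stalkL f n z b • v) = b • T v → T (stalkL f n z b • w) = b • T w →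
          T (stalkL f n z b • (v + w)) = b • T (v + w) := fun v w hv hw => by
        rw [smul_add, map_add, map_add, hv, hw, smul_add]
      exact h1 v w hv hw
  · show T (e _) = _
    refine (congrArg T (OX.pullStalkIso_germ (pr2 f n) z F U hz t)).trans ?_
    exact (hγ1 _).trans (hDs U hz t)

/-- An operator satisfying the alternating sum condition factors through principal parts. -/
theorem isDiffOpLE_of_alt (D : F.presheaf ⟶ G.presheaf)
    (hlin : ∀ (V : S.Opens) (s : Γ(S, V)) (U : X.Opens) (hU : U ≤ f ⁻¹ᵁ V) (t : Γ(F, U)),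
      D.app (op U) (X.presheaf.map (homOfLE hU).op (f.app V s) • t) =
        X.presheaf.map (homOfLE hU).op (f.app V s) • D.app (op U) t)
    (halt : ∀ (U : X.Opens) (a : Fin (n + 1) → Γ(X, U)) (t : Γ(F, U)),
        (∑ H : Finset (Fin (n + 1)),
          ((-1 : ℤ) ^ H.card) • ((∏ i ∈ H, a i) • D.app (op U) ((∏ i ∈ Hᶜ, a i) • t))) = 0) :
    IsDiffOpLE f F G n D := by
  choose u hu1 hu2 using exists_stalk_hom f F G n D hlin halt
  let M := (Scheme.Modules.pullback (pr2 f n)).obj F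
  have hmem : ∀ (V : X.Opens) (z : nbhd f n), z ∈ pr1 f n ⁻¹ᵁ V → pr2 f n z ∈ V :=
    fun V z hz => (preimage_pr1 f n V).le hz
  let Spec' : ∀ V : X.Opens, Γ(PMod f n F, V) → Γ(G, V) → Prop := fun V s g =>
    ∀ (z : nbhd f n) (hz : z ∈ pr1 f n ⁻¹ᵁ V), OX.germ (DCoh.toP.obj G) V (hmem V z hz) g =
      u z (OX.germ (DCoh.toP.obj M) (pr1 f n ⁻¹ᵁ V) hz s)
  have huniq : ∀ (V : X.Opens) s g g', Spec' V s g → Spec' V s g' → g = g' := fun V s g g' h h' => by
    refine TopCat.Presheaf.section_ext (C := Ab.{u}) (⟨G.presheaf, G.isSheaf⟩ : TopCat.Sheaf Ab X) V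
      g g' fun y hy => ?_
    obtain ⟨z, hz, rfl⟩ : ∃ z, z ∈ pr1 f n ⁻¹ᵁ V ∧ pr2 f n z = y :=
      ⟨toNbhd f n y, by show pr1 f n (toNbhd f n y) ∈ V; rwa [pr1_toNbhd_apply], pr2_toNbhd_apply f n y⟩
    exact (h z hz).trans (h' z hz).symm
  have hres : ∀ (V W : X.Opens) (e : W ≤ V) s g, Spec' V s g →
      Spec' W ((PMod f n F).presheaf.map (homOfLE e).op s) (G.presheaf.map (homOfLE e).op g) := by
    intro V W e s g h z hz
    refine (OX.germ_map (DCoh.toP.obj G) (homOfLE e) (hmem W z hz) g).trans ?_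
    refine (h z ((pr1 f n).preimage_mono e hz)).trans (congrArg (u z) ?_)
    exact (OX.germ_map (DCoh.toP.obj M) (homOfLE ((pr1 f n).preimage_mono e)) hz s).symm
  have hadd : ∀ (V : X.Opens) s s' g g', Spec' V s g → Spec' V s' g' → Spec' V (s + s') (g + g') :=
    fun V s s' g g' h h' z hz => by
      refine (map_add (OX.germ (DCoh.toP.obj G) V (hmem V z hz)) g g').trans ?_
      refine ((congrArg₂ (· + ·) (h z hz) (h' z hz)).trans (map_add (u z) _ _).symm).trans ?_
      exact congrArg (u z) (map_add (OX.germ (DCoh.toP.obj M) (pr1 f n ⁻¹ᵁ V) hz) s s').symm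
  have hsmul : ∀ (V : X.Opens) (a : Γ(X, V)) s g, Spec' V s g → Spec' V (a • s) (a • g) :=
    fun V a s g h z hz => by
      refine (OX.germ_smul' (DCoh.toP.obj G) V (hmem V z hz) a g).trans ?_
      rw [h z hz, ← hu1 z]
      refine congrArg (u z) (Eq.symm ?_)
      refine (OX.germ_smul' (DCoh.toP.obj M) (pr1 f n ⁻¹ᵁ V) hz ((pr1 f n).app V a) s).trans ?_
      rw [stalkL_germ, Scheme.Hom.germ_stalkMap_apply]
  have hdP : ∀ (V : X.Opens) (t : Γ(F, V)), Spec' V (dP f n F V t) (D.app (op V) t) := fun V t z hz => by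
    rw [← hu2 z V (hmem V z hz) t]
    exact congrArg (u z) (OX.germ_map (DCoh.toP.obj M) (homOfLE (preimage_pr1 f n V).le) hz
      (OX.pullSec (pr2 f n) F V t)).symm
  have hzero : ∀ V : X.Opens, Spec' V 0 0 := fun V z hz =>
    (map_zero (OX.germ (DCoh.toP.obj G) V (hmem V z hz))).trans
      (Eq.symm ((congrArg (u z) (map_zero (OX.germ (DCoh.toP.obj M) (pr1 f n ⁻¹ᵁ V) hz))).trans
        (map_zero (u z))))
  have hneg : ∀ (V : X.Opens) s g, Spec' V s g → Spec' V (-s) (-g) := fun V s g h z hz => by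
    refine (map_neg (OX.germ (DCoh.toP.obj G) V (hmem V z hz)) g).trans ?_
    refine ((congrArg Neg.neg (h z hz)).trans (map_neg (u z) _).symm).trans ?_
    exact congrArg (u z) (map_neg (OX.germ (DCoh.toP.obj M) (pr1 f n ⁻¹ᵁ V) hz) s).symm
  let K : ∀ V : X.Opens, AddSubgroup Γ(PMod f n F, V) := fun V =>
    { carrier := {s | ∃ g, Spec' V s g}
      zero_mem' := ⟨0, hzero V⟩
      add_mem' := fun ⟨g, h⟩ ⟨g', h'⟩ => ⟨g + g', hadd V _ _ g g' h h'⟩
      neg_mem' := fun ⟨g, h⟩ => ⟨-g, hneg V _ g h⟩ }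
  have hex : ∀ (V : X.Opens) (s : Γ(PMod f n F, V)), ∃ g, Spec' V s g := by
    intro V s
    choose W hWV hxW hmemK using fun x : V => exists_mem_of_generators f n F K
      (fun V₁ W₁ e s₁ ⟨g, h⟩ => ⟨_, hres V₁ W₁ e s₁ g h⟩)
      (fun V₁ a t => ⟨_, hsmul V₁ a _ _ (hdP V₁ t)⟩) V s x.1 x.2
    choose g hg using hmemK
    have hcomp : TopCat.Presheaf.IsCompatible (C := Ab.{u}) G.presheaf W g := by
      intro i j
      refine huniq (W i ⊓ W j) ((PMod f n F).presheaf.map (homOfLE (inf_le_left.trans (hWV i))).op s) _ _ ?_ ?_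
      · have h := hres _ (W i ⊓ W j) inf_le_left _ _ (hg i)
        rwa [OmegaSh.resM_resM] at h
      · have h := hres _ (W i ⊓ W j) inf_le_right _ _ (hg j)
        rwa [OmegaSh.resM_resM] at h
    obtain ⟨g₀, hg₀, -⟩ := TopCat.Sheaf.existsUnique_gluing' (⟨G.presheaf, G.isSheaf⟩ : TopCat.Sheaf Ab X)
      W V (fun i => homOfLE (hWV i)) (fun x hx => TopologicalSpace.Opens.mem_iSup.2 ⟨⟨x, hx⟩, hxW ⟨x, hx⟩⟩)
      g hcomp
    refine ⟨g₀, fun z hz => ?_⟩
    let i : V := ⟨pr2 f n z, hmem V z hz⟩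
    have hzW : z ∈ pr1 f n ⁻¹ᵁ W i := by
      show pr1 f n z ∈ W i
      rw [pr1_apply]
      exact hxW i
    have h1 := hg i z hzW
    rw [← hg₀ i] at h1
    refine ((OX.germ_map (DCoh.toP.obj G) (homOfLE (hWV i)) (hmem (W i) z hzW) g₀).symm.trans h1).trans
      (congrArg (u z) ?_)
    exact OX.germ_map (DCoh.toP.obj M) (homOfLE ((pr1 f n).preimage_mono (hWV i))) hzW s
  choose v hv using hex
  let w : (PMod f n F).presheaf ⟶ G.presheaf :=
    { app := fun V => AddCommGrpCat.ofHom (AddMonoidHom.mk' (v V.unop) fun s t =>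
        huniq V.unop (s + t) _ _ (hv V.unop (s + t)) (hadd V.unop s t _ _ (hv V.unop s) (hv V.unop t)))
      naturality := fun V W i => by
        ext s
        exact huniq W.unop _ _ _ (hv W.unop _) (hres V.unop W.unop i.unop.le s _ (hv V.unop s)) }
  let uhom : PMod f n F ⟶ G := ⟨PresheafOfModules.homMk w fun V (r : Γ(X, V.unop)) m =>
    huniq V.unop _ _ _ (hv V.unop (r • m)) (hsmul V.unop r m _ (hv V.unop m))⟩
  exact ⟨uhom, fun V t => huniq V _ _ _ (hdP V t) (hv V _)⟩

end GrothLib.PPGen
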