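import Groth.Agent.Lib.PPGen.Sections
import Groth.Agent.Lib.PPGen.DiffHom
import Groth.Agent.Lib.PPGen.DiffAlt
import Groth.Agent.Lib.IdealModSec.Basic
import Mathlib.Tactic.Module

/-!
# The sheaf of differentials inside the principal parts of order one
-/

set_option autoImplicit false
set_option linter.style.haveILetI false
set_option backward.isDefEq.respectTransparency false
set_option maxHeartbeats 800000

universe u

open CategoryTheory CategoryTheory.Limits AlgebraicGeometry Opposite
open GrothLib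

noncomputable section

namespace GrothLib.PPGen

open PrinPart

variable {X S : Scheme.{u}} (f : X ⟶ S) (n : ℕ)

theorem pfn_map {U V : X.Opens} (e : V ≤ U) (s : Γ(P f n, U)) :
    pfn f n V ((P f n).presheaf.map (homOfLE e).op s) =
      (nbhd f n).presheaf.map (homOfLE ((pr1 f n).preimage_mono e)).op (pfn f n U s) :=
  congr($((Scheme.Modules.Hom.mapPresheaf (OX.pullUnitIso (pr2 f n)).hom).naturality
    (homOfLE ((pr1 f n).preimage_mono e)).op) s)

/-- A function on the neighbourhood as a section of principal parts. -/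
def pfnInv (U : X.Opens) (a : Γ(nbhd f n, pr1 f n ⁻¹ᵁ U)) : Γ(P f n, U) :=
  (OX.pullUnitIso (pr2 f n)).inv.app (pr1 f n ⁻¹ᵁ U) (OmegaSh.strSect _ _ a)

theorem pfn_pfnInv (U : X.Opens) (a : Γ(nbhd f n, pr1 f n ⁻¹ᵁ U)) :
    pfn f n U (pfnInv f n U a) = a :=
  congr($((OX.pullUnitIso (pr2 f n)).inv_hom_id).app (pr1 f n ⁻¹ᵁ U) (OmegaSh.strSect _ _ a))

theorem preimage_diag_le (W : (pullback f f).Opens) :
    pr1 f n ⁻¹ᵁ (pullback.diagonal f ⁻¹ᵁ W) ≤ nbhdι f n ⁻¹ᵁ W := fun z hz => by
  have h : pullback.diagonal f (pr1 f n z) ∈ W := hz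
  show nbhdι f n z ∈ W
  rwa [← toNbhd_pr1_apply f n z, ← Scheme.Hom.comp_apply, toNbhd_ι]

/-- A function on an open of the product restricted to the neighbourhood. -/
def restrictProd (W : (pullback f f).Opens) :
    Γ(pullback f f, W) →+* Γ(nbhd f n, pr1 f n ⁻¹ᵁ (pullback.diagonal f ⁻¹ᵁ W)) :=
  ((nbhdι f n).appLE _ _ (preimage_diag_le f n W)).hom

theorem section_app_comp {N Y P : Scheme.{u}} (s : Y ⟶ N) (i : N ⟶ P) (d : Y ⟶ P) (h : s ≫ i = d)
    (W : P.Opens) (V : N.Opens) (e : V ≤ i ⁻¹ᵁ W) (e' : s ⁻¹ᵁ V ≤ d ⁻¹ᵁ W) (a : Γ(P, W)) :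
    s.app V (i.appLE W V e a) = Y.presheaf.map (homOfLE e').op (d.app W a) := by
  subst h
  rw [← ConcreteCategory.comp_apply, Scheme.Hom.app_eq_appLE, Scheme.Hom.appLE_comp_appLE]
  rfl

theorem toNbhd_app_restrictProd (W : (pullback f f).Opens) (a : Γ(pullback f f, W)) :
    (toNbhd f n).app (pr1 f n ⁻¹ᵁ (pullback.diagonal f ⁻¹ᵁ W)) (restrictProd f n W a) =
      X.presheaf.map (homOfLE (preimage_toNbhd_pr1_le f n _)).op ((pullback.diagonal f).app W a) := by
  exact section_app_comp (toNbhd f n) (nbhdι f n) (pullback.diagonal f) (toNbhd_ι f n) W _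
    (preimage_diag_le f n W) (preimage_toNbhd_pr1_le f n _) a

theorem diagonal_app_val (W : (pullback f f).Opens)
    (k : Γ(ClSub.idealMod (pullback.diagonal f).ker, W)) :
    (pullback.diagonal f).app W (IdealModSec.val _ W k) = 0 := by
  have h := IdealModSec.app_val (pullback.diagonal f).ker W k
  have h' := congrArg ((Scheme.Hom.toImage (pullback.diagonal f)).app
    ((pullback.diagonal f).ker.subschemeι ⁻¹ᵁ W)) h
  rw [map_zero, ← ConcreteCategory.comp_apply, ← Scheme.Hom.comp_app] at h'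
  have e0 : pullback.diagonal f ⁻¹ᵁ W ≤
      (Scheme.Hom.toImage (pullback.diagonal f) ≫ (pullback.diagonal f).ker.subschemeι) ⁻¹ᵁ W := by
    rw [show Scheme.Hom.toImage (pullback.diagonal f) ≫ (pullback.diagonal f).ker.subschemeι =
      pullback.diagonal f from Scheme.Hom.toImage_imageι _]
  rw [app_congr (show pullback.diagonal f =
    Scheme.Hom.toImage (pullback.diagonal f) ≫ (pullback.diagonal f).ker.subschemeι from
      (Scheme.Hom.toImage_imageι _).symm) W e0]
  exact (congrArg (X.presheaf.map (homOfLE e0).op) h').trans (map_zero _)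

/-- `I → Δ_* P¹`, restricting functions to the first neighbourhood. -/
theorem exists_ideal_to_P1 :
    ∃ φ : ClSub.idealMod (pullback.diagonal f).ker ⟶
        (Scheme.Modules.pushforward (pullback.diagonal f)).obj (P f 1),
      ∀ (W : (pullback f f).Opens) (k : Γ(ClSub.idealMod (pullback.diagonal f).ker, W)),
        pfn f 1 (pullback.diagonal f ⁻¹ᵁ W) (φ.app W k) =
          restrictProd f 1 W (IdealModSec.val _ W k) := by
  let I := (pullback.diagonal f).ker
  let N := (Scheme.Modules.pushforward (pullback.diagonal f)).obj (P f 1)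
  let v : ∀ W : (pullback f f).Opens, Γ(ClSub.idealMod I, W) → Γ(N, W) := fun W k =>
    pfnInv f 1 (pullback.diagonal f ⁻¹ᵁ W) (restrictProd f 1 W (IdealModSec.val I W k))
  have hv : ∀ W k, pfn f 1 (pullback.diagonal f ⁻¹ᵁ W) (v W k) =
      restrictProd f 1 W (IdealModSec.val I W k) := fun W k => pfn_pfnInv f 1 _ _
  let w : (ClSub.idealMod I).presheaf ⟶ N.presheaf :=
    { app := fun W => AddCommGrpCat.ofHom (AddMonoidHom.mk' (v W.unop) fun a b =>
        pfn_injective f 1 _ ((hv W.unop (a + b)).trans (Eq.symm ((pfn_add f 1 _ _ _).trans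
          ((congrArg₂ (· + ·) (hv W.unop a) (hv W.unop b)).trans
            (((congrArg (restrictProd f 1 W.unop)
              (map_add ((ClSub.idealModι I).app W.unop).hom a b)).trans (map_add _ _ _)).symm))))))
      naturality := fun W W' i => by
        ext k
        refine pfn_injective f 1 (pullback.diagonal f ⁻¹ᵁ W'.unop) ?_
        refine (hv W'.unop _).trans (Eq.symm ?_)
        refine (pfn_map f 1 ((pullback.diagonal f).preimage_mono i.unop.le) (v W.unop k)).trans ?_
        rw [hv]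
        have h := IdealModSec.val_mres I i.unop.le k
        refine Eq.trans ?_ (congrArg (restrictProd f 1 W'.unop) h).symm
        show ((nbhdι f 1).appLE _ _ (preimage_diag_le f 1 W.unop) ≫ (nbhd f 1).presheaf.map _)
            (IdealModSec.val I W.unop k) =
          ((pullback f f).presheaf.map (homOfLE i.unop.le).op ≫
            (nbhdι f 1).appLE _ _ (preimage_diag_le f 1 W'.unop)) (IdealModSec.val I W.unop k)
        rw [Scheme.Hom.appLE_map, Scheme.Hom.map_appLE] }
  let φ : ClSub.idealMod I ⟶ N := ⟨PresheafOfModules.homMk w fun W (r : Γ(pullback f f, W.unop)) k => by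
    show v W.unop (r • k) = (pullback.diagonal f).app W.unop r • (show Γ(P f 1, _) from v W.unop k)
    refine pfn_injective f 1 (pullback.diagonal f ⁻¹ᵁ W.unop) ?_
    rw [hv, pfn_smul, hv, IdealModSec.val_smul, map_mul, ← sub_eq_zero, ← sub_mul]
    have h := prod_eq_zero f 1 (pr1 f 1 ⁻¹ᵁ (pullback.diagonal f ⁻¹ᵁ W.unop))
      ![restrictProd f 1 W.unop r - pr1Fn f 1 _ ((pullback.diagonal f).app W.unop r),
        restrictProd f 1 W.unop (IdealModSec.val I W.unop k)] ?_
    · rw [Fin.prod_univ_two] at h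
      exact h
    · intro i
      fin_cases i
      · show (toNbhd f 1).app _ (_ - _) = 0
        rw [map_sub, toNbhd_app_restrictProd, toNbhd_app_pr1Fn, sub_self]
      · show (toNbhd f 1).app _ (restrictProd f 1 W.unop (IdealModSec.val I W.unop k)) = 0
        rw [toNbhd_app_restrictProd, diagonal_app_val, map_zero]⟩
  exact ⟨φ, hv⟩

variable [QuasiSeparated f]

/-- The map `Ω → P¹` with `d s ↦ d¹ s - s`. -/
theorem exists_omega_to_P1 :
    ∃ ι : Omega.sheaf f ⟶ P f 1, ∀ (U : X.Opens) (s : Γ(X, U)),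
      ι.app U ((OmegaSh.dOmega f).app U s) = dn f 1 U s - s • dn f 1 U 1 := by
  obtain ⟨φ, hφ⟩ := exists_ideal_to_P1 f
  let adj := Scheme.Modules.pullbackPushforwardAdjunction (pullback.diagonal f)
  refine ⟨(adj.homEquiv _ _).symm φ, fun U s => ?_⟩
  let ι := (adj.homEquiv _ _).symm φ
  let W := OmegaSh.diagNbhd f U
  let k := OmegaSh.idealLift f U s
  let e := OmegaSh.le_preimage_diagNbhd f U
  have h0 : adj.unit.app (ClSub.idealMod (pullback.diagonal f).ker) ≫
      (Scheme.Modules.pushforward (pullback.diagonal f)).map ι = φ :=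
    (adj.homEquiv_unit _ _ _).symm.trans (Equiv.apply_symm_apply _ φ)
  have h1 : ι.app (pullback.diagonal f ⁻¹ᵁ W)
      (OmegaSh.pullSect (pullback.diagonal f) _ W k) = φ.app W k := congr($(h0).app W k)
  have h2 : ι.app U ((OmegaSh.dOmega f).app U s) =
      (P f 1).presheaf.map (homOfLE e).op (φ.app W k) := by
    rw [← h1]
    exact congr($((Scheme.Modules.Hom.mapPresheaf ι).naturality (homOfLE e).op)
      (OmegaSh.pullSect (pullback.diagonal f) _ W k))
  refine pfn_injective f 1 U ?_
  refine (congrArg (pfn f 1 U) h2).trans ?_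
  rw [pfn_map, hφ]
  have h3 : pfn f 1 U (dn f 1 U s - s • dn f 1 U 1) = pr2Fn f 1 U s - pr1Fn f 1 U s := by
    have h4 := pfn_add f 1 U (dn f 1 U s - s • dn f 1 U 1) (s • dn f 1 U 1)
    rw [sub_add_cancel, pfn_dn, pfn_smul, pfn_dn, map_one (pr2Fn f 1 U), mul_one] at h4
    rw [h4, add_sub_cancel_right]
  rw [h3]
  rw [show IdealModSec.val (pullback.diagonal f).ker (OmegaSh.diagNbhd f U) k = OmegaSh.diagDiff f U s
    from OmegaSh.ι_idealLift f U s]
  rw [OmegaSh.diagDiff, map_sub, map_sub]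
  refine congrArg₂ (· - ·) ?_ ?_
  · show ((pullback.snd f f).appLE U W inf_le_right ≫ (nbhdι f 1).appLE _ _ (preimage_diag_le f 1 W) ≫
      (nbhd f 1).presheaf.map _) s = _
    rw [Scheme.Hom.appLE_map, Scheme.Hom.appLE_comp_appLE]
    rfl
  · show ((pullback.fst f f).appLE U W inf_le_left ≫ (nbhdι f 1).appLE _ _ (preimage_diag_le f 1 W) ≫
      (nbhd f 1).presheaf.map _) s = _
    rw [Scheme.Hom.appLE_map, Scheme.Hom.appLE_comp_appLE, pr1Fn, Scheme.Hom.app_eq_appLE]
    rfl

omit [QuasiSeparated f] in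
/-- An `O_X`-linear map plus a derivation factors through `P¹`. -/
theorem exists_hom_of_derivation {G : X.Modules} (l : Coh.structureModule X ⟶ G) (δ : OmegaSh.Der f G) :
    ∃ u : P f 1 ⟶ G, ∀ (U : X.Opens) (s : Γ(X, U)),
      u.app U (dn f 1 U s) = l.app U (OmegaSh.strSect X U s) + δ.app U s := by
  let D : (Coh.structureModule X).presheaf ⟶ G.presheaf :=
    { app := fun U => AddCommGrpCat.ofHom ((l.app U.unop).hom +
        (δ.app U.unop).comp (OmegaSh.fnSect X U.unop))
      naturality := fun U V i => by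
        ext t
        show l.app V.unop ((Coh.structureModule X).presheaf.map i t) +
            δ.app V.unop (X.presheaf.map i (OmegaSh.fnSect X U.unop t)) =
          G.presheaf.map i (l.app U.unop t + δ.app U.unop (OmegaSh.fnSect X U.unop t))
        rw [map_add]
        exact congrArg₂ (· + ·) (congr($((Scheme.Modules.Hom.mapPresheaf l).naturality i) t))
          (δ.d_map i (OmegaSh.fnSect X U.unop t)) }
  have hD : ∀ (U : X.Opens) (s : Γ(X, U)),
      D.app (op U) (OmegaSh.strSect X U s) = l.app U (OmegaSh.strSect X U s) + δ.app U s := fun _ _ => rfl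
  have hl : ∀ (U : X.Opens) (a b : Γ(X, U)),
      l.app U (OmegaSh.strSect X U (a * b)) = a • l.app U (OmegaSh.strSect X U b) := fun U a b =>
    (congrArg (l.app U) (OmegaSh.strSect_mul U a b)).trans (Scheme.Modules.Hom.app_smul l a _)
  have hmul : ∀ (U : X.Opens) (a b : Γ(X, U)),
      δ.app U (a * b) = a • δ.app U b + b • δ.app U a := fun U a b => δ.d_mul (X := op U) a b
  have hsm : ∀ (U : X.Opens) (a : Γ(X, U)) (s : Γ(X, U)),
      D.app (op U) (a • OmegaSh.strSect X U s) =
        a • l.app U (OmegaSh.strSect X U s) + a • δ.app U s + s • δ.app U a := fun U a s => by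
    rw [← OmegaSh.strSect_mul, hD, hl, hmul]
    abel
  have hbase : ∀ (V : S.Opens) (c : Γ(S, V)) (U : X.Opens) (hU : U ≤ f ⁻¹ᵁ V),
      δ.app U (X.presheaf.map (homOfLE hU).op (f.app V c)) = 0 := fun V c U hU => by
    refine (δ.d_map (homOfLE hU).op (f.app V c)).trans ?_
    rw [show δ.d (X := op (f ⁻¹ᵁ V)) (f.app V c) = 0 from δ.d_app (X := op V) c]
    exact map_zero (G.presheaf.map (homOfLE hU).op).hom
  obtain ⟨u, hu⟩ : IsDiffOpLE f (Coh.structureModule X) G 1 D := by
    refine isDiffOpLE_of_alt f _ G 1 D (fun V c U hU t => ?_) (fun U a t => ?_)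
    · obtain ⟨s, rfl⟩ : ∃ s, OmegaSh.strSect X U s = t := ⟨OmegaSh.fnSect X U t, rfl⟩
      rw [hsm, hbase, smul_zero, add_zero, hD, smul_add]
    · obtain ⟨s, rfl⟩ : ∃ s, OmegaSh.strSect X U s = t := ⟨OmegaSh.fnSect X U t, rfl⟩
      have h := Alg.phi_prod_delta (A := ℤ) (D.app (op U)).hom.toIntLinearMap a (OmegaSh.strSect X U s)
      refine h.symm.trans ?_
      rw [Fin.prod_univ_two, Alg.delta, Alg.delta]
      simp only [sub_mul, mul_sub, Algebra.TensorProduct.tmul_mul_tmul, mul_one, one_mul, map_sub,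
        LinearMap.sub_apply, Alg.phi_tmul, AddMonoidHom.coe_toIntLinearMap, one_smul]
      simp only [mul_smul, hsm, ← OmegaSh.strSect_mul, hD, hl, hmul]
      module
  exact ⟨u, fun U s => ((hu U (OmegaSh.strSect X U s)).symm.trans (hD U s))⟩

end GrothLib.PPGen
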