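import Groth.Agent.Lib.PPGen.Maps
import Groth.Agent.Lib.AbsApprox.ClosedApprox
import Groth.Agent.Lib.DiagGrp.KernelFP

/-!
# Finiteness properties of infinitesimal neighbourhoods
-/

set_option autoImplicit false
set_option linter.style.haveILetI false

universe u

open CategoryTheory CategoryTheory.Limits AlgebraicGeometry Opposite

noncomputable section

namespace GrothLib.PPGen

open PrinPart

variable {Y Z : Scheme.{u}}

/-- A morphism with a surjective section is affine and universally closed. -/
theorem isAffineHom_of_surjective_section (q : Z ⟶ Y) (s : Y ⟶ Z) (hs : Function.Surjective s)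
    (h : s ≫ q = 𝟙 Y) : IsAffineHom q ∧ UniversallyClosed q := by
  have h1 : ∀ y, q (s y) = y := fun y => by rw [← Scheme.Hom.comp_apply, h]; rfl
  have h2 : ∀ z, s (q z) = z := fun z => by
    obtain ⟨y, rfl⟩ := hs z
    rw [h1]
  let e : Z ≃ₜ Y :=
    { toFun := q
      invFun := s
      left_inv := h2
      right_inv := h1
      continuous_toFun := q.continuous
      continuous_invFun := s.continuous }
  refine ⟨isAffineHom_of_isInducing q e.isInducing ?_, ?_⟩
  · rw [show Set.range q = Set.univ from Set.range_eq_univ.2 e.surjective]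
    exact isClosed_univ
  · haveI : Surjective s := ⟨hs⟩
    haveI : UniversallyClosed (s ≫ q) := by rw [h]; infer_instance
    exact UniversallyClosed.of_comp_surjective s q

/-- A morphism locally of finite type with a surjective section is finite. -/
theorem isFinite_of_surjective_section (q : Z ⟶ Y) [LocallyOfFiniteType q] (s : Y ⟶ Z)
    (hs : Function.Surjective s) (h : s ≫ q = 𝟙 Y) : IsFinite q := by
  obtain ⟨h1, h2⟩ := isAffineHom_of_surjective_section q s hs h
  exact (IsFinite.iff_isIntegralHom_and_locallyOfFiniteType q).2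
    ⟨IsIntegralHom.iff_universallyClosed_and_isAffineHom.2 ⟨h2, h1⟩, inferInstance⟩

/-- The ideal of a finitely presented closed immersion is finitely generated. -/
theorem ker_ideal_fg (i : Y ⟶ Z) [IsClosedImmersion i] [LocallyOfFinitePresentation i]
    (U : Z.affineOpens) : (i.ker.ideal U).FG := by
  rw [Scheme.Hom.ker_apply]
  have h1 : (i.appLE U.1 (i ⁻¹ᵁ U.1) le_rfl).hom.FinitePresentation :=
    HasRingHomProperty.appLE (P := @LocallyOfFinitePresentation) i ‹_› U ⟨_, U.2.preimage i⟩ le_rfl
  rw [← Scheme.Hom.app_eq_appLE] at h1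
  letI := (i.app U.1).hom.toAlgebra
  haveI : Algebra.FinitePresentation Γ(Z, U.1) Γ(Y, i ⁻¹ᵁ U.1) := h1
  exact Algebra.FinitePresentation.ker_fG_of_surjective (Algebra.ofId Γ(Z, U.1) Γ(Y, i ⁻¹ᵁ U.1))
    (i.app_surjective U.1 U.2)

theorem lfp_infNbhdι (i : Y ⟶ Z) [IsClosedImmersion i] [LocallyOfFinitePresentation i] (n : ℕ) :
    LocallyOfFinitePresentation (infNbhdι i n) := by
  refine GrothLib.AbsApprox.lfp_subschemeι _ fun U => ?_
  rw [Scheme.IdealSheafData.ideal_pow]
  exact Submodule.FG.pow (ker_ideal_fg i U) (n + 1)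

variable {X S : Scheme.{u}} (f : X ⟶ S) (n : ℕ)

theorem isAffineHom_pr1 : IsAffineHom (pr1 f n) :=
  (isAffineHom_of_surjective_section (pr1 f n) (toNbhd f n) (toInfNbhd_surjective _ n)
    (toNbhd_pr1 f n)).1

theorem locallyOfFiniteType_nbhdι : LocallyOfFiniteType (nbhdι f n) := by
  haveI : IsClosedImmersion (infNbhdι (diagCl f) n) := by unfold infNbhdι; infer_instance
  unfold nbhdι
  infer_instance

theorem isFinite_pr1 [LocallyOfFiniteType f] : IsFinite (pr1 f n) := by
  haveI := locallyOfFiniteType_nbhdι f n
  haveI : LocallyOfFiniteType (pr1 f n) := by unfold pr1; infer_instance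
  exact isFinite_of_surjective_section _ (toNbhd f n) (toInfNbhd_surjective _ n) (toNbhd_pr1 f n)

theorem lfp_pr1 [LocallyOfFinitePresentation f] : LocallyOfFinitePresentation (pr1 f n) := by
  haveI : LocallyOfFinitePresentation (diagCl f ≫ (pullback.diagonal f).coborderRange.ι ≫
      pullback.fst f f) := by
    rw [← Category.assoc, Scheme.Hom.liftCoborder_ι, pullback.diagonal_fst]
    infer_instance
  haveI : LocallyOfFinitePresentation ((pullback.diagonal f).coborderRange.ι ≫ pullback.fst f f) :=
    inferInstance
  haveI : LocallyOfFinitePresentation (diagCl f) :=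
    GrothLib.DiagGrp.lfp_of_comp_of_lft (diagCl f)
      ((pullback.diagonal f).coborderRange.ι ≫ pullback.fst f f) inferInstance inferInstance
  haveI := lfp_infNbhdι (diagCl f) n
  unfold pr1 nbhdι
  infer_instance

end GrothLib.PPGen

namespace GrothLib.PPGen

open PrinPart

variable {X S : Scheme.{u}} (f : X ⟶ S) (n : ℕ)

/-- The projection `pr₁` of an infinitesimal neighbourhood is a homeomorphism. -/
theorem isInducing_pr1 : Topology.IsInducing (pr1 f n).base ∧ Function.Surjective (pr1 f n) := by
  let e : nbhd f n ≃ₜ X :=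
    { toFun := pr1 f n
      invFun := toNbhd f n
      left_inv := toNbhd_pr1_apply f n
      right_inv := pr1_toNbhd_apply f n
      continuous_toFun := (pr1 f n).continuous
      continuous_invFun := (toNbhd f n).continuous }
  exact ⟨e.isInducing, e.surjective⟩

end GrothLib.PPGen
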