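import Groth.Agent.Lib.HomSh.QCoh

/-!
# The sheaf Hom out of a finitely presented module into a quasi-coherent one is quasi-coherent
-/

set_option autoImplicit false

universe u

open CategoryTheory CategoryTheory.Limits Opposite AlgebraicGeometry TopologicalSpace

namespace GrothLib.HomSh

variable {X : Scheme.{u}} {F G : X.Modules}

/-- The sheaf Hom out of a module with relations into a quasi-coherent module is quasi-coherent. -/
theorem isQCoh_homSh_of_hasRel (hF : HasRel F) (hG : Coh.IsQCoh G) :
    Coh.IsQCoh (RefHull.homSh F G) := by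
  classical
  choose W ι hι κ hκ m a hxW hgen hrel using hF
  have hnb : ∀ x : X, ∃ U : X.Opens, IsAffineOpen U ∧ x ∈ U ∧ U ≤ W x := fun x =>
    let ⟨U, hU, hx, hle⟩ := Opens.isBasis_iff_nbhd.1 X.isBasis_affineOpens (hxW x)
    ⟨U, hU, hx, hle⟩
  choose U hA hxU hUW using hnb
  have hcov : IsOpenCover U := eq_top_iff.2 fun x _ => Opens.mem_iSup.2 ⟨x, hxU x⟩
  have : G.IsQuasicoherent := hG
  have hqc : (RefHull.homSh F G).IsQuasicoherent := by
    refine QCoh.isQuasicoherent_of_smulLift_of_smulSep _ U hcov hA fun x g => ⟨fun s => ?_, fun t ht => ?_⟩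
    · have hle : X.basicOpen g ≤ W x := (X.basicOpen_le g).trans (hUW x)
      choose k t ht using fun i =>
        (QCoh.smulLift_and_smulSep_of_isAffineOpen (hA x) G g).1 (applyGens (m := m x) hle s i)
      let N := ∑ i, k i
      let t' : ι x → Γ(G, U x) := fun i => g ^ (N - k i) • t i
      have ht' : ∀ i, G.presheaf.map (homOfLE (X.basicOpen_le g)).op (t' i) =
          (X.presheaf.map (homOfLE (X.basicOpen_le g)).op g) ^ N • applyGens (m := m x) hle s i := fun i => by
        rw [Scheme.Modules.map_smul, ht, map_pow, smul_smul, ← pow_add,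
          Nat.sub_add_cancel (Finset.single_le_sum (fun j _ => Nat.zero_le (k j)) (Finset.mem_univ i))]
      have hsep : ∀ j : κ x, ∃ l : ℕ,
          g ^ l • ∑ i, X.presheaf.map (homOfLE (hUW x)).op (a x j i) • t' i = 0 := fun j => by
        refine (QCoh.smulLift_and_smulSep_of_isAffineOpen (hA x) G g).2 _ ?_
        refine GrothLib.QCoh.section_eq_zero_of_germ G _ fun y hy => ?_
        rw [TopCat.Presheaf.germ_res_apply, map_sum]
        have := congrArg (s.1 ⟨y, hy⟩) ((hrel x y (hle hy)).1 j)
        rw [map_zero, map_sum] at this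
        calc _ = ∑ i, X.presheaf.germ (U x) y (X.basicOpen_le g hy) g ^ N •
              s.1 ⟨y, hy⟩ (X.presheaf.germ (W x) y (hle hy) (a x j i) •
                F.presheaf.germ (W x) y (hle hy) (m x i)) := by
              refine Finset.sum_congr rfl fun i _ => ?_
              rw [Mero.germ_smul, TopCat.Presheaf.germ_res_apply,
                ← TopCat.Presheaf.germ_res_apply G.presheaf (homOfLE (X.basicOpen_le g)) y hy, ht',
                Mero.germ_smul, map_pow, TopCat.Presheaf.germ_res_apply, germ_applyGens, map_smul, smul_comm]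
          _ = 0 := by rw [← Finset.smul_sum, this, smul_zero]
      choose l hl using hsep
      let L := ∑ j, l j
      obtain ⟨θ, hθ⟩ := exists_section_of_relOn F G (hgen x) (hrel x) (hUW x) (le_refl (U x))
        (fun i => g ^ L • t' i) fun j => by
          have : ∑ i, X.presheaf.map (homOfLE (hUW x)).op (a x j i) • g ^ L • t' i =
              g ^ (L - l j) • g ^ l j • ∑ i, X.presheaf.map (homOfLE (hUW x)).op (a x j i) • t' i := by
            rw [smul_smul, ← pow_add,
              Nat.sub_add_cancel (Finset.single_le_sum (fun j _ => Nat.zero_le (l j)) (Finset.mem_univ j)),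
              Finset.smul_sum]
            exact Finset.sum_congr rfl fun i _ => smul_comm _ _ _
          rw [this, hl, smul_zero, map_zero]
      refine ⟨L + N, θ, ext_of_genOn hle (hgen x) _ _ fun y hy i => ?_⟩
      change θ.1 ⟨y, X.basicOpen_le g hy⟩ _ =
        (X.presheaf.germ (X.basicOpen g) y hy
          ((X.presheaf.map (homOfLE (X.basicOpen_le g)).op g) ^ (L + N)) • s.1 ⟨y, hy⟩) _
      rw [LinearMap.smul_apply, hθ, ← germ_applyGens (m := m x) hle, pow_add, map_mul, mul_smul,
        ← Mero.germ_smul G (X.basicOpen g), ← ht', TopCat.Presheaf.germ_res_apply, Mero.germ_smul,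
        map_pow, map_pow, TopCat.Presheaf.germ_res_apply]
    · have hk : ∀ i, ∃ k : ℕ, g ^ k • applyGens (m := m x) (hUW x) t i = 0 := fun i => by
        refine (QCoh.smulLift_and_smulSep_of_isAffineOpen (hA x) G g).2 _ ?_
        refine GrothLib.QCoh.section_eq_zero_of_germ G _ fun y hy => ?_
        rw [TopCat.Presheaf.germ_res_apply, germ_applyGens]
        have h0 : t.1 ⟨y, X.basicOpen_le g hy⟩ = 0 := congrFun (congrArg Subtype.val ht) ⟨y, hy⟩
        rw [h0, LinearMap.zero_apply]
      choose k hk using hk
      refine ⟨∑ i, k i, applyGensₗ_injective (hUW x) (hgen x) ?_⟩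
      rw [map_smul, map_zero]
      funext i
      change g ^ _ • applyGens (m := m x) (hUW x) t i = 0
      rw [← Nat.sub_add_cancel (Finset.single_le_sum (fun j _ => Nat.zero_le (k j)) (Finset.mem_univ i)),
        pow_add, mul_smul, hk, smul_zero]
  exact hqc

end GrothLib.HomSh
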