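import Groth.Agent.Lib.PPGen.StalkDiff
import Groth.Agent.Lib.LocProp.Stalk
import Mathlib.RingTheory.Etale.Kaehler

/-!
# Differentials and squares with étale horizontal maps
-/

set_option autoImplicit false
set_option linter.style.haveILetI false
set_option backward.isDefEq.respectTransparency false
set_option maxHeartbeats 1600000

universe u

open CategoryTheory CategoryTheory.Limits AlgebraicGeometry Opposite
open GrothLib GrothLib.OmegaUniv

noncomputable section

namespace GrothLib.PPGen

attribute [local instance] OmegaUniv.stalkAlg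

variable {X T S : Scheme.{u}} (p : X ⟶ T) (g : T ⟶ S)

/-- A derivation over `T` is one over `S`. -/
def derOfBase {Ω : X.Modules} (d : OmegaSh.Der p Ω) : OmegaSh.Der (p ≫ g) Ω where
  d {U} := d.d (X := U)
  d_mul := fun a b => d.d_mul a b
  d_map := fun i a => d.d_map i a
  d_app := fun {V} s => d.d_app (X := op (g ⁻¹ᵁ V.unop)) (g.app V.unop s)

/-- Derivations over `S` vanish on `O_T` when `T ⟶ S` is formally unramified. -/
theorem app_base_eq_zero [FormallyUnramified g] {F : X.Modules} (D : OmegaSh.Der (p ≫ g) F)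
    (V : T.Opens) (s : Γ(T, V)) : D.app (p ⁻¹ᵁ V) (p.app V s) = 0 := by
  refine OX.section_eq_zero _ fun x hx => ?_
  let R := S.presheaf.stalk (g (p x))
  let R' := T.presheaf.stalk (p x)
  let B := X.presheaf.stalk x
  letI : Algebra R R' := stalkAlg g (p x)
  letI : Module R' (St x F) := Module.compHom (St x F) (p.stalkMap x).hom
  letI : Module R (St x F) := Module.compHom (St x F) ((p.stalkMap x).hom.comp (g.stalkMap (p x)).hom)
  haveI : IsScalarTower R R' (St x F) := IsScalarTower.of_algebraMap_smul fun r m => rfl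
  haveI : Algebra.FormallyUnramified R R' := FormallyUnramified.stalkMap g (p x)
  have hzero : ∀ r : R,
      stalkD x D ((p.stalkMap x).hom ((g.stalkMap (p x)).hom r)) = 0 := by
    intro r
    have h : ((p ≫ g).stalkMap x).hom r = (p.stalkMap x).hom ((g.stalkMap (p x)).hom r) := by
      rw [Scheme.Hom.stalkMap_comp]
      rfl
    rw [← h]
    exact stalkD_algebraMap x D r
  let δ : Derivation R R' (St x F) := Derivation.mk'
    { toFun := fun b => stalkD x D ((p.stalkMap x).hom b)
      map_add' := fun a b => by rw [map_add]; exact (stalkD_leibniz x D _ _).2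
      map_smul' := fun r b => by
        show stalkD x D ((p.stalkMap x).hom ((g.stalkMap (p x)).hom r * b)) = _
        rw [map_mul, (stalkD_leibniz x D _ _).1, hzero, smul_zero, add_zero]
        rfl }
    (fun a b => by
      show stalkD x D ((p.stalkMap x).hom (a * b)) = _
      rw [map_mul]
      exact (stalkD_leibniz x D _ _).1)
  have hδ : δ (T.presheaf.germ V (p x) hx s) = 0 := by
    have : δ = 0 := (KaehlerDifferential.linearMapEquivDerivation R R').symm.injective
      (Subsingleton.elim _ _)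
    rw [this]
    rfl
  refine Eq.trans ?_ hδ
  show _ = stalkD x D ((p.stalkMap x).hom (T.presheaf.germ V (p x) hx s))
  rw [← CommRingCat.comp_apply, p.germ_stalkMap V x hx, CommRingCat.comp_apply, stalkD_germ]
  rfl

/-- The differentials over `T` are those over `S`. -/
theorem isUniversal_derOfBase [FormallyUnramified g] {Ω : X.Modules} (d : OmegaSh.Der p Ω)
    (hd : OmegaSh.IsUniversal d) : OmegaSh.IsUniversal (derOfBase p g d) := by
  intro F D
  let D' : OmegaSh.Der p F :=
    { d := fun {U} => D.d (X := U)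
      d_mul := fun a b => D.d_mul a b
      d_map := fun i a => D.d_map i a
      d_app := fun {V} s => app_base_eq_zero p g D V.unop s }
  obtain ⟨β, hβ, huniq⟩ := hd F D'
  refine ⟨β, ?_, fun γ hγ => huniq γ ?_⟩
  · refine PresheafOfModules.Derivation.ext (funext fun U => AddMonoidHom.ext fun s => ?_)
    exact PresheafOfModules.Derivation.congr_d hβ (X := U) s
  · refine PresheafOfModules.Derivation.ext (funext fun U => AddMonoidHom.ext fun s => ?_)
    exact PresheafOfModules.Derivation.congr_d hγ (X := U) s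

theorem isIso_diffCompat_of_etale {Z Y B : Scheme.{u}} (q : Y ⟶ B) (f : Z ⟶ Y) [Etale f]
    (h : Z ⟶ B) (w : f ≫ q = h)
    {ΩY : Y.Modules} {dY : OmegaSh.Der q ΩY} (hY : OmegaSh.IsUniversal dY)
    {ΩZ : Z.Modules} {dZ : OmegaSh.Der h ΩZ} (hZ : OmegaSh.IsUniversal dZ)
    (c : (Scheme.Modules.pullback f).obj ΩY ⟶ ΩZ) (hc : OmegaSh.IsDiffCompat f dY dZ c) :
    IsIso c := by
  subst w
  rw [OX.isIso_iff c]
  intro z
  letI := OmegaUniv.stalkAlg f z
  letI := OmegaUniv.stalkAlg q (f z)
  letI := compAlg q f z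
  haveI := stalk_tower q f z
  haveI : Algebra.FormallyUnramified (Y.presheaf.stalk (f z)) (Z.presheaf.stalk z) :=
    FormallyUnramified.stalkMap f z
  haveI : Algebra.FormallySmooth (Y.presheaf.stalk (f z)) (Z.presheaf.stalk z) := by
    have hz : z ∈ f.smoothLocus := by rw [f.smoothLocus_eq_top]; trivial
    exact Scheme.Hom.mem_smoothLocus.1 hz
  haveI : Algebra.FormallyEtale (Y.presheaf.stalk (f z)) (Z.presheaf.stalk z) :=
    Algebra.FormallyEtale.iff_formallyUnramified_and_formallySmooth.2 ⟨‹_›, ‹_›⟩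
  have hb : Function.Bijective (KaehlerDifferential.mapBaseChange
      (B.presheaf.stalk (q (f z))) (Y.presheaf.stalk (f z)) (Z.presheaf.stalk z)) :=
    (KaehlerDifferential.tensorKaehlerEquivOfFormallyEtale
      (B.presheaf.stalk (q (f z))) (Y.presheaf.stalk (f z)) (Z.presheaf.stalk z)).bijective
  haveI : Mono ((OX.stalk z).map c) := (stalk_diffCompat q f z hY hZ c hc).2.2 hb.1
  haveI : Epi ((OX.stalk z).map c) := (stalk_diffCompat q f z hY hZ c hc).1.2 hb.2
  exact isIso_of_mono_of_epi _

theorem isIso_of_etale_square {X₁ S₁ X₂ S₂ : Scheme.{u}} (p₁ : X₁ ⟶ S₁) (p₂ : X₂ ⟶ S₂)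
    (f : X₂ ⟶ X₁) (g : S₂ ⟶ S₁) [Etale f] [Etale g] (hsq : f ≫ p₁ = p₂ ≫ g)
    {Ω₁ : X₁.Modules} {d₁ : OmegaSh.Der p₁ Ω₁} (hd₁ : OmegaSh.IsUniversal d₁)
    {Ω₂ : X₂.Modules} {d₂ : OmegaSh.Der p₂ Ω₂} (hd₂ : OmegaSh.IsUniversal d₂)
    (c : (Scheme.Modules.pullback f).obj Ω₁ ⟶ Ω₂) (hc : OmegaSh.IsDiffCompat f d₁ d₂ c) : IsIso c :=
  isIso_diffCompat_of_etale p₁ f (p₂ ≫ g) hsq hd₁ (isUniversal_derOfBase p₂ g d₂ hd₂) c hc

end GrothLib.PPGen
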