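import Groth.Prelude.Def_Omega4
import Groth.Agent.Lib.OmegaUniv.Stalk
import Groth.Agent.Lib.OX.Exact
import Mathlib.AlgebraicGeometry.Morphisms.Flat
import Mathlib.Algebra.TrivSqZeroExt.Basic

/-!
# Differentials of fibre products
-/

set_option autoImplicit false
set_option linter.style.haveILetI false
set_option backward.isDefEq.respectTransparency false
set_option maxHeartbeats 1600000

universe u

open CategoryTheory CategoryTheory.Limits AlgebraicGeometry Opposite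
open GrothLib

noncomputable section

namespace GrothLib.PPGen

open OmegaUniv

section Ring

/-- The ring hom into a trivial extension given by a derivation along a ring hom. -/
def sqZeroHom {R O N : Type u} [CommRing R] [CommRing O] [AddCommGroup N] [Module O N] [Module Oᵐᵒᵖ N]
    [IsCentralScalar O N] (g : R →+* O) (δ : R →+ N)
    (hδ : ∀ a b, δ (a * b) = g a • δ b + g b • δ a) : R →+* TrivSqZeroExt O N where
  toFun a := TrivSqZeroExt.inl (g a) + TrivSqZeroExt.inr (δ a)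
  map_one' := by
    have h : δ 1 = 0 := by simpa using hδ 1 1
    rw [h, map_one, TrivSqZeroExt.inr_zero, add_zero, TrivSqZeroExt.inl_one]
  map_mul' a b := by
    refine TrivSqZeroExt.ext ?_ ?_
    · simp
    · simp [hδ, op_smul_eq_smul]
  map_zero' := by simp
  map_add' a b := by
    refine TrivSqZeroExt.ext ?_ ?_ <;> simp

theorem sqZeroHom_fst {R O N : Type u} [CommRing R] [CommRing O] [AddCommGroup N] [Module O N] [Module Oᵐᵒᵖ N]
    [IsCentralScalar O N] (g : R →+* O) (δ : R →+ N)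
    (hδ : ∀ a b, δ (a * b) = g a • δ b + g b • δ a) (a : R) : (sqZeroHom g δ hδ a).fst = g a := by
  simp [sqZeroHom]

theorem sqZeroHom_snd {R O N : Type u} [CommRing R] [CommRing O] [AddCommGroup N] [Module O N] [Module Oᵐᵒᵖ N]
    [IsCentralScalar O N] (g : R →+* O) (δ : R →+ N)
    (hδ : ∀ a b, δ (a * b) = g a • δ b + g b • δ a) (a : R) : (sqZeroHom g δ hδ a).snd = δ a := by
  simp [sqZeroHom]

/-- An element with unit first component is a unit. -/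
theorem isUnit_of_fst {O N : Type u} [CommRing O] [AddCommGroup N] [Module O N] [Module Oᵐᵒᵖ N]
    [IsCentralScalar O N] (x : TrivSqZeroExt O N) (h : IsUnit x.fst) : IsUnit x := by
  obtain ⟨v, hv⟩ := h
  refine isUnit_iff_exists_inv.2 ⟨TrivSqZeroExt.inl (↑v⁻¹ : O) +
    TrivSqZeroExt.inr (-((↑v⁻¹ * ↑v⁻¹ : O) • x.snd)), ?_⟩
  refine TrivSqZeroExt.ext ?_ ?_
  · simp [← hv]
  · simp [← hv, op_smul_eq_smul, smul_smul, mul_comm (↑v⁻¹ : O)]

end Ring

variable {X Y S Z : Scheme.{u}} {a : X ⟶ S} {b : Y ⟶ S} {p : Z ⟶ X} {q : Z ⟶ Y}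

/-- A family of derivations along `p`. -/
structure DerFam (p : Z ⟶ X) (M : Z.Modules) where
  /-- the values -/
  e : ∀ U : X.Opens, Γ(X, U) →+ Γ(M, p ⁻¹ᵁ U)
  map : ∀ {U U' : X.Opens} (h : U' ≤ U) (s : Γ(X, U)),
    e U' (X.presheaf.map (homOfLE h).op s) = M.presheaf.map (homOfLE (p.preimage_mono h)).op (e U s)
  mul : ∀ (U : X.Opens) (s t : Γ(X, U)), e U (s * t) = p.app U s • e U t + p.app U t • e U s

variable {M : Z.Modules}

/-- The germ of a value. -/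
def DerFam.germ (E : DerFam p M) (z : Z) (U : X.Opens) (hz : z ∈ p ⁻¹ᵁ U) : Γ(X, U) →+ St z M :=
  (OX.germ (DCoh.toP.obj M) (p ⁻¹ᵁ U) hz).comp (E.e U)

theorem DerFam.germ_map (E : DerFam p M) (z : Z) {U U' : X.Opens} (h : U' ≤ U) (hz : z ∈ p ⁻¹ᵁ U')
    (s : Γ(X, U)) :
    E.germ z U' hz (X.presheaf.map (homOfLE h).op s) = E.germ z U (p.preimage_mono h hz) s :=
  (congrArg (OX.germ (DCoh.toP.obj M) (p ⁻¹ᵁ U') hz) (E.map h s)).trans
    (OX.germ_map (DCoh.toP.obj M) (homOfLE (p.preimage_mono h)) hz _)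

theorem DerFam.germ_mul (E : DerFam p M) (z : Z) (U : X.Opens) (hz : z ∈ p ⁻¹ᵁ U) (s t : Γ(X, U)) :
    E.germ z U hz (s * t) = Z.presheaf.germ (p ⁻¹ᵁ U) z hz (p.app U s) • E.germ z U hz t +
      Z.presheaf.germ (p ⁻¹ᵁ U) z hz (p.app U t) • E.germ z U hz s :=
  (congrArg (OX.germ (DCoh.toP.obj M) (p ⁻¹ᵁ U) hz) (E.mul U s t)).trans ((map_add _ _ _).trans
    (congrArg₂ (· + ·) (OX.germ_smul' (DCoh.toP.obj M) _ _ _ _) (OX.germ_smul' (DCoh.toP.obj M) _ _ _ _)))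

theorem germ_app_map (p : Z ⟶ X) (z : Z) {U U' : X.Opens} (h : U' ≤ U) (hz : z ∈ p ⁻¹ᵁ U') (s : Γ(X, U)) :
    Z.presheaf.germ (p ⁻¹ᵁ U') z hz (p.app U' (X.presheaf.map (homOfLE h).op s)) =
      Z.presheaf.germ (p ⁻¹ᵁ U) z (p.preimage_mono h hz) (p.app U s) := by
  rw [show p.app U' (X.presheaf.map (homOfLE h).op s) =
    Z.presheaf.map (homOfLE (p.preimage_mono h)).op (p.app U s) from congr($(p.naturality (homOfLE h).op) s)]
  exact TopCat.Presheaf.germ_res_apply _ _ _ _ _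

/-- A derivation on a stalk taking prescribed values on an affine neighbourhood takes them everywhere. -/
theorem DerFam.eq_of_affine (E : DerFam p M) (z : Z) (D : Z.presheaf.stalk z →+ St z M)
    (hD : ∀ r r', D (r * r') = r • D r' + r' • D r) {U : X.Opens} (hU : IsAffineOpen U) (hz : z ∈ p ⁻¹ᵁ U)
    (h : ∀ s, D (Z.presheaf.germ (p ⁻¹ᵁ U) z hz (p.app U s)) = E.germ z U hz s)
    (U' : X.Opens) (hz' : z ∈ p ⁻¹ᵁ U') (s' : Γ(X, U')) :
    D (Z.presheaf.germ (p ⁻¹ᵁ U') z hz' (p.app U' s')) = E.germ z U' hz' s' := by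
  obtain ⟨f₀, hf, hf'⟩ := hU.exists_basicOpen_le (⟨p z, hz'⟩ : U') hz
  have hle : X.basicOpen f₀ ≤ U := X.basicOpen_le f₀
  let V := X.basicOpen f₀
  haveI := hU.isLocalization_basicOpen f₀
  obtain ⟨⟨s, ⟨_, k, rfl⟩⟩, hs⟩ := IsLocalization.surj (Submonoid.powers f₀)
    (X.presheaf.map (homOfLE hf).op s' : Γ(X, V))
  have hzV : z ∈ p ⁻¹ᵁ V := hf'
  let σ : Γ(X, V) := X.presheaf.map (homOfLE hf).op s'
  let ρ : Γ(X, V) := X.presheaf.map (homOfLE hle).op (f₀ ^ k)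
  let τ : Γ(X, V) := X.presheaf.map (homOfLE hle).op s
  have hs' : σ * ρ = τ := hs
  let φ : Γ(X, V) →+* Z.presheaf.stalk z :=
    (Z.presheaf.germ (p ⁻¹ᵁ V) z hzV).hom.comp (p.app V).hom
  have hφ : ∀ {U₁ : X.Opens} (e : V ≤ U₁) (t : Γ(X, U₁)),
      φ (X.presheaf.map (homOfLE e).op t) = Z.presheaf.germ (p ⁻¹ᵁ U₁) z (p.preimage_mono e hzV) (p.app U₁ t) :=
    fun e t => germ_app_map p z e hzV t
  have h1 : D (φ (σ * ρ)) = D (φ τ) := by rw [hs']
  have h2 : E.germ z V hzV (σ * ρ) = E.germ z V hzV τ := by rw [hs']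
  have hρ : D (φ ρ) = E.germ z V hzV ρ := by rw [hφ, h, DerFam.germ_map]
  have hτ : D (φ τ) = E.germ z V hzV τ := by rw [hφ, h, DerFam.germ_map]
  rw [map_mul φ, hD, hρ, hτ] at h1
  rw [DerFam.germ_mul] at h2
  change φ σ • E.germ z V hzV ρ + φ ρ • E.germ z V hzV σ = _ at h2
  have hu : IsUnit (φ ρ) := by
    have := hU.isLocalization_basicOpen f₀
    exact (IsLocalization.map_units Γ(X, V) (⟨f₀ ^ k, k, rfl⟩ : Submonoid.powers f₀)).map φ
  have h3 : φ ρ • D (φ σ) = φ ρ • E.germ z V hzV σ := add_left_cancel (h1.trans h2.symm)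
  have h4 := hu.smul_left_cancel.1 h3
  rw [hφ, DerFam.germ_map] at h4
  exact h4

section Fib

variable (hsq : IsPullback p q a b)
include hsq

/-- Local data of a fibre product at a point. -/
theorem exists_local_pushout (z : Z) :
    ∃ (V : S.Opens) (U : X.Opens) (U' : Y.Opens) (hU : U ≤ a ⁻¹ᵁ V) (hU' : U' ≤ b ⁻¹ᵁ V),
      IsAffineOpen U ∧ IsAffineOpen U' ∧ IsAffineOpen (p ⁻¹ᵁ U ⊓ q ⁻¹ᵁ U') ∧ z ∈ p ⁻¹ᵁ U ⊓ q ⁻¹ᵁ U' ∧
      IsPushout (a.appLE V U hU) (b.appLE V U' hU') (p.appLE U (p ⁻¹ᵁ U ⊓ q ⁻¹ᵁ U') inf_le_left)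
        (q.appLE U' (p ⁻¹ᵁ U ⊓ q ⁻¹ᵁ U') inf_le_right) := by
  obtain ⟨V, hV, hzV, -⟩ := TopologicalSpace.Opens.isBasis_iff_nbhd.mp S.isBasis_affineOpens
    (show a (p z) ∈ (⊤ : S.Opens) from trivial)
  obtain ⟨U, hU, hzU, hUV⟩ := TopologicalSpace.Opens.isBasis_iff_nbhd.mp X.isBasis_affineOpens
    (show p z ∈ a ⁻¹ᵁ V from hzV)
  have hzV' : q z ∈ b ⁻¹ᵁ V := by
    show b (q z) ∈ V
    rw [← Scheme.Hom.comp_apply, ← hsq.w, Scheme.Hom.comp_apply]
    exact hzV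
  obtain ⟨U', hU', hzU', hU'V⟩ := TopologicalSpace.Opens.isBasis_iff_nbhd.mp Y.isBasis_affineOpens hzV'
  haveI : IsAffine _ := hV
  haveI : IsAffine _ := hU
  haveI : IsAffine _ := hU'
  refine ⟨V, U, U', hUV, hU'V, hU, hU', ?_, ⟨hzU, hzU'⟩, ?_⟩
  · exact .of_isIso (Scheme.Hom.isPullback_resLE hsq hU'V hUV rfl).isoPullback.hom
  · exact (AlgebraicGeometry.isIso_pushoutSection_iff hsq hU'V hUV rfl).1
      (AlgebraicGeometry.isIso_pushoutSection_of_isAffineOpen hsq hU'V hUV rfl hV hU' hU)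

omit hsq in
theorem germ_appLE (p : Z ⟶ X) {U : X.Opens} {W : Z.Opens} (h : W ≤ p ⁻¹ᵁ U) (z : Z) (hz : z ∈ W) (s : Γ(X, U)) :
    Z.presheaf.germ W z hz (p.appLE U W h s) = Z.presheaf.germ (p ⁻¹ᵁ U) z (h hz) (p.app U s) :=
  TopCat.Presheaf.germ_res_apply _ _ _ _ _

/-- Additive Leibniz maps on the stalk of a fibre product agree if they agree on both factors. -/
theorem stalk_der_ext (z : Z) {N : Type u} [AddCommGroup N] [Module (Z.presheaf.stalk z) N]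
    (D D' : Z.presheaf.stalk z →+ N)
    (hD : ∀ r r', D (r * r') = r • D r' + r' • D r) (hD' : ∀ r r', D' (r * r') = r • D' r' + r' • D' r)
    (h₁ : ∀ (U : X.Opens) (hz : z ∈ p ⁻¹ᵁ U) (s : Γ(X, U)),
      D (Z.presheaf.germ (p ⁻¹ᵁ U) z hz (p.app U s)) = D' (Z.presheaf.germ (p ⁻¹ᵁ U) z hz (p.app U s)))
    (h₂ : ∀ (U : Y.Opens) (hz : z ∈ q ⁻¹ᵁ U) (s : Γ(Y, U)),
      D (Z.presheaf.germ (q ⁻¹ᵁ U) z hz (q.app U s)) = D' (Z.presheaf.germ (q ⁻¹ᵁ U) z hz (q.app U s))) :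
    D = D' := by
  letI : Module (Z.presheaf.stalk z)ᵐᵒᵖ N := Module.compHom N (RingEquiv.toOpposite _).symm.toRingHom
  haveI : IsCentralScalar (Z.presheaf.stalk z) N := ⟨fun _ _ => rfl⟩
  obtain ⟨V, U, U', hU, hU', -, -, hW, hzW, hP⟩ := exists_local_pushout hsq z
  let W := p ⁻¹ᵁ U ⊓ q ⁻¹ᵁ U'
  let g : Γ(Z, W) →+* Z.presheaf.stalk z := (Z.presheaf.germ W z hzW).hom
  let Φ := sqZeroHom (RingHom.id _) D (fun r r' => hD r r')
  let Φ' := sqZeroHom (RingHom.id _) D' (fun r r' => hD' r r')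
  have hh : CommRingCat.ofHom (Φ.comp g) = CommRingCat.ofHom (Φ'.comp g) := by
    refine hP.hom_ext (CommRingCat.hom_ext (RingHom.ext fun s => ?_)) (CommRingCat.hom_ext (RingHom.ext fun s => ?_))
    · show Φ (g (p.appLE U W inf_le_left s)) = Φ' (g (p.appLE U W inf_le_left s))
      refine TrivSqZeroExt.ext (by rw [sqZeroHom_fst, sqZeroHom_fst]) ?_
      rw [sqZeroHom_snd, sqZeroHom_snd]
      show D (Z.presheaf.germ W z hzW (p.appLE U W inf_le_left s)) = D' _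
      rw [germ_appLE]
      exact h₁ U _ s
    · show Φ (g (q.appLE U' W inf_le_right s)) = Φ' (g (q.appLE U' W inf_le_right s))
      refine TrivSqZeroExt.ext (by rw [sqZeroHom_fst, sqZeroHom_fst]) ?_
      rw [sqZeroHom_snd, sqZeroHom_snd]
      show D (Z.presheaf.germ W z hzW (q.appLE U' W inf_le_right s)) = D' _
      rw [germ_appLE]
      exact h₂ U' _ s
  letI := (Z.presheaf.germ W z hzW).hom.toAlgebra
  haveI := hW.isLocalization_stalk ⟨z, hzW⟩
  have h : Φ = Φ' := IsLocalization.ringHom_ext (hW.primeIdealOf ⟨z, hzW⟩).asIdeal.primeCompl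
    (congrArg CommRingCat.Hom.hom hh)
  refine AddMonoidHom.ext fun r => ?_
  have h' := congrArg (fun φ => (φ r).snd) h
  simpa [Φ, Φ', sqZeroHom_snd] using h'

/-- Derivations on both factors glue to a derivation of each stalk. -/
theorem exists_stalk_der (E₁ : DerFam p M) (E₂ : DerFam q M)
    (h₁ : ∀ (V : S.Opens) (s : Γ(S, V)), E₁.e (a ⁻¹ᵁ V) (a.app V s) = 0)
    (h₂ : ∀ (V : S.Opens) (s : Γ(S, V)), E₂.e (b ⁻¹ᵁ V) (b.app V s) = 0) (z : Z) :
    ∃ D : Z.presheaf.stalk z →+ St z M, (∀ r r', D (r * r') = r • D r' + r' • D r) ∧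
      (∀ (U : X.Opens) (hz : z ∈ p ⁻¹ᵁ U) (s : Γ(X, U)),
        D (Z.presheaf.germ (p ⁻¹ᵁ U) z hz (p.app U s)) = E₁.germ z U hz s) ∧
      ∀ (U : Y.Opens) (hz : z ∈ q ⁻¹ᵁ U) (s : Γ(Y, U)),
        D (Z.presheaf.germ (q ⁻¹ᵁ U) z hz (q.app U s)) = E₂.germ z U hz s := by
  let O := Z.presheaf.stalk z
  let N := St z M
  letI : Module Oᵐᵒᵖ N := Module.compHom N (RingEquiv.toOpposite _).symm.toRingHom
  haveI : IsCentralScalar O N := ⟨fun _ _ => rfl⟩
  obtain ⟨V, U, U', hU, hU', hUa, hU'a, hW, hzW, hP⟩ := exists_local_pushout hsq z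
  let W := p ⁻¹ᵁ U ⊓ q ⁻¹ᵁ U'
  let Φ₁ : Γ(X, U) →+* TrivSqZeroExt O N :=
    sqZeroHom ((Z.presheaf.germ (p ⁻¹ᵁ U) z hzW.1).hom.comp (p.app U).hom) (E₁.germ z U hzW.1)
      (fun s t => E₁.germ_mul z U hzW.1 s t)
  let Φ₂ : Γ(Y, U') →+* TrivSqZeroExt O N :=
    sqZeroHom ((Z.presheaf.germ (q ⁻¹ᵁ U') z hzW.2).hom.comp (q.app U').hom) (E₂.germ z U' hzW.2)
      (fun s t => E₂.germ_mul z U' hzW.2 s t)
  have hc : a.appLE V U hU ≫ CommRingCat.ofHom Φ₁ = b.appLE V U' hU' ≫ CommRingCat.ofHom Φ₂ := by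
    refine CommRingCat.hom_ext (RingHom.ext fun s => ?_)
    show Φ₁ (X.presheaf.map (homOfLE hU).op (a.app V s)) = Φ₂ (Y.presheaf.map (homOfLE hU').op (b.app V s))
    refine TrivSqZeroExt.ext ?_ ?_
    · rw [sqZeroHom_fst, sqZeroHom_fst]
      show Z.presheaf.germ (p ⁻¹ᵁ U) z hzW.1 (p.app U (a.appLE V U hU s)) =
        Z.presheaf.germ (q ⁻¹ᵁ U') z hzW.2 (q.app U' (b.appLE V U' hU' s))
      rw [← germ_appLE p inf_le_left z hzW, ← germ_appLE q inf_le_right z hzW]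
      exact congrArg (Z.presheaf.germ W z hzW) (congr($(hP.w) s))
    · rw [sqZeroHom_snd, sqZeroHom_snd, E₁.germ_map, E₂.germ_map]
      show OX.germ (DCoh.toP.obj M) _ _ (E₁.e (a ⁻¹ᵁ V) (a.app V s)) =
        OX.germ (DCoh.toP.obj M) _ _ (E₂.e (b ⁻¹ᵁ V) (b.app V s))
      rw [h₁, h₂]
      exact (map_zero _).trans (map_zero _).symm
  let ΦW : Γ(Z, W) →+* TrivSqZeroExt O N := (hP.desc (CommRingCat.ofHom Φ₁) (CommRingCat.ofHom Φ₂) hc).hom
  let g : Γ(Z, W) →+* O := (Z.presheaf.germ W z hzW).hom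
  let π : TrivSqZeroExt O N →+* O := (TrivSqZeroExt.fstHom O O N).toRingHom
  have hπ : CommRingCat.ofHom (π.comp ΦW) = Z.presheaf.germ W z hzW := by
    refine hP.hom_ext (CommRingCat.hom_ext (RingHom.ext fun s => ?_)) (CommRingCat.hom_ext (RingHom.ext fun s => ?_))
    · show (ΦW (p.appLE U W inf_le_left s)).fst = g (p.appLE U W inf_le_left s)
      rw [show ΦW (p.appLE U W inf_le_left s) = Φ₁ s from congr($(hP.inl_desc _ _ hc) s), sqZeroHom_fst]
      exact (germ_appLE p inf_le_left z hzW s).symm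
    · show (ΦW (q.appLE U' W inf_le_right s)).fst = g (q.appLE U' W inf_le_right s)
      rw [show ΦW (q.appLE U' W inf_le_right s) = Φ₂ s from congr($(hP.inr_desc _ _ hc) s), sqZeroHom_fst]
      exact (germ_appLE q inf_le_right z hzW s).symm
  letI := (Z.presheaf.germ W z hzW).hom.toAlgebra
  haveI := hW.isLocalization_stalk ⟨z, hzW⟩
  let Sm := (hW.primeIdealOf ⟨z, hzW⟩).asIdeal.primeCompl
  have hfst : ∀ w, (ΦW w).fst = g w := fun w => congr($hπ w)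
  have hunit : ∀ w : Sm, IsUnit (ΦW w) := fun w => by
    refine isUnit_of_fst _ ?_
    rw [hfst]
    exact IsLocalization.map_units O w
  let L : O →+* TrivSqZeroExt O N := IsLocalization.lift hunit
  have hL : ∀ r, (L r).fst = r := fun r => by
    have h : π.comp L = RingHom.id O := IsLocalization.ringHom_ext Sm (RingHom.ext fun w => by
      show (L (algebraMap _ O w)).fst = algebraMap _ O w
      rw [IsLocalization.lift_eq hunit, hfst]
      rfl)
    exact congr($h r)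
  let D : O →+ N := AddMonoidHom.mk' (fun r => (L r).snd) fun r r' => by rw [map_add, TrivSqZeroExt.snd_add]
  have hDm : ∀ r r', D (r * r') = r • D r' + r' • D r := fun r r' => by
    show (L (r * r')).snd = _
    rw [map_mul, TrivSqZeroExt.snd_mul, hL, hL, op_smul_eq_smul]
    rfl
  have hLg : ∀ w, L (g w) = ΦW w := fun w => IsLocalization.lift_eq hunit w
  refine ⟨D, hDm, ?_, ?_⟩
  · refine E₁.eq_of_affine z D hDm hUa hzW.1 fun s => ?_
    show (L _).snd = _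
    rw [← germ_appLE p inf_le_left z hzW s, hLg,
      show ΦW (p.appLE U W inf_le_left s) = Φ₁ s from congr($(hP.inl_desc _ _ hc) s), sqZeroHom_snd]
  · refine E₂.eq_of_affine z D hDm hU'a hzW.2 fun s => ?_
    show (L _).snd = _
    rw [← germ_appLE q inf_le_right z hzW s, hLg,
      show ΦW (q.appLE U' W inf_le_right s) = Φ₂ s from congr($(hP.inr_desc _ _ hc) s), sqZeroHom_snd]

/-- A map to differentials of a fibre product is an isomorphism when its source is generated by the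
differentials of the two factors, glued. -/
theorem isIso_of_derFam {T : Scheme.{u}} (h : Z ⟶ T) {ΩZ : Z.Modules} (dZ : OmegaSh.Der h ΩZ)
    (hdZ : OmegaSh.IsUniversal dZ) (E₁ : DerFam p M) (E₂ : DerFam q M)
    (h₁ : ∀ (V : S.Opens) (s : Γ(S, V)), E₁.e (a ⁻¹ᵁ V) (a.app V s) = 0)
    (h₂ : ∀ (V : S.Opens) (s : Γ(S, V)), E₂.e (b ⁻¹ᵁ V) (b.app V s) = 0)
    (c : M ⟶ ΩZ)
    (hc₁ : ∀ (U : X.Opens) (s : Γ(X, U)), c.app (p ⁻¹ᵁ U) (E₁.e U s) = dZ.app (p ⁻¹ᵁ U) (p.app U s))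
    (hc₂ : ∀ (U : Y.Opens) (s : Γ(Y, U)), c.app (q ⁻¹ᵁ U) (E₂.e U s) = dZ.app (q ⁻¹ᵁ U) (q.app U s))
    (hgen : ∀ {G : Z.Modules} (u v : M ⟶ G),
      (∀ (U : X.Opens) (s : Γ(X, U)), u.app (p ⁻¹ᵁ U) (E₁.e U s) = v.app (p ⁻¹ᵁ U) (E₁.e U s)) →
      (∀ (U : Y.Opens) (s : Γ(Y, U)), u.app (q ⁻¹ᵁ U) (E₂.e U s) = v.app (q ⁻¹ᵁ U) (E₂.e U s)) → u = v)
    (hT : ∀ (V : T.Opens) (t : Γ(T, V)) (z : Z) (hz : z ∈ h ⁻¹ᵁ V) (D : Z.presheaf.stalk z →+ St z M),
      (∀ r r', D (r * r') = r • D r' + r' • D r) →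
      (∀ (U : X.Opens) (hz : z ∈ p ⁻¹ᵁ U) (s : Γ(X, U)),
        D (Z.presheaf.germ (p ⁻¹ᵁ U) z hz (p.app U s)) = E₁.germ z U hz s) →
      (∀ (U : Y.Opens) (hz : z ∈ q ⁻¹ᵁ U) (s : Γ(Y, U)),
        D (Z.presheaf.germ (q ⁻¹ᵁ U) z hz (q.app U s)) = E₂.germ z U hz s) →
      D (Z.presheaf.germ (h ⁻¹ᵁ V) z hz (h.app V t)) = 0) :
    IsIso c := by
  refine (OX.isIso_iff c).2 fun z => ?_
  obtain ⟨D, hD, hD₁, hD₂⟩ := exists_stalk_der hsq E₁ E₂ h₁ h₂ z
  let O := Z.presheaf.stalk z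
  let cz : St z M →ₗ[O] St z ΩZ := ((OX.stalk z).map c).hom
  have hcz : ∀ (U : Z.Opens) (hz : z ∈ U) (m : Γ(M, U)),
      cz (OX.germ (DCoh.toP.obj M) U hz m) = OX.germ (DCoh.toP.obj ΩZ) U hz (c.app U m) :=
    fun U hz m => TopCat.Presheaf.stalkFunctor_map_germ_apply (F := M.presheaf) (G := ΩZ.presheaf) U z hz
      (Scheme.Modules.Hom.mapPresheaf c) m
  letI := OmegaUniv.stalkAlg h z
  letI : Module (T.presheaf.stalk (h z)) (St z M) := Module.compHom _ (algebraMap (T.presheaf.stalk (h z)) O)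
  haveI : IsScalarTower (T.presheaf.stalk (h z)) O (St z M) := IsScalarTower.of_algebraMap_smul fun _ _ => rfl
  have hD0 : ∀ t : T.presheaf.stalk (h z), D (algebraMap _ O t) = 0 := fun t => by
    obtain ⟨V, hV, t, rfl⟩ := T.presheaf.exists_germ_eq t
    rw [show algebraMap (T.presheaf.stalk (h z)) O (T.presheaf.germ V (h z) hV t) =
      Z.presheaf.germ (h ⁻¹ᵁ V) z hV (h.app V t) from Scheme.Hom.germ_stalkMap_apply h V z hV t]
    exact hT V t z hV D hD hD₁ hD₂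
  let δ : Derivation (T.presheaf.stalk (h z)) O (St z M) := Derivation.mk'
    { D with
      map_smul' := fun t r => by
        show D (t • r) = t • D r
        rw [Algebra.smul_def, hD, hD0, smul_zero, add_zero]
        rfl } (fun r r' => hD r r')
  let ψ : St z ΩZ →ₗ[O] St z M := δ.liftKaehlerDifferential.comp (toKaehler z hdZ)
  have hψ : ∀ (U : Z.Opens) (hz : z ∈ U) (s : Γ(Z, U)), ψ (dg dZ U hz s) = D (Z.presheaf.germ U z hz s) :=
    fun U hz s => by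
      show δ.liftKaehlerDifferential (toKaehler z hdZ (dg dZ U hz s)) = _
      rw [toKaehler_dg]
      exact δ.liftKaehlerDifferential_comp_D _
  have hψc : ψ.comp cz = LinearMap.id := by
    let K : Submodule O (St z M) := LinearMap.eqLocus (ψ.comp cz) LinearMap.id
    let N : ModuleCat.{u} O := ModuleCat.of _ (St z M ⧸ K)
    let qq : St z M →ₗ[O] N := K.mkQ
    let α : M ⟶ OX.skyObj z N := ⟨(OX.stalkHomEquiv z (DCoh.toP.obj M) N) (ModuleCat.ofHom qq)⟩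
    let β : M ⟶ OX.skyObj z N := ⟨(OX.stalkHomEquiv z (DCoh.toP.obj M) N) (ModuleCat.ofHom 0)⟩
    have hαβ : α = β := by
      refine hgen α β (fun U s => funext fun hh => ?_) (fun U s => funext fun hh => ?_)
      · refine (Submodule.Quotient.mk_eq_zero K).2 ?_
        show ψ (cz (E₁.germ z U hh.down s)) = E₁.germ z U hh.down s
        rw [show cz (E₁.germ z U hh.down s) = dg dZ (p ⁻¹ᵁ U) hh.down (p.app U s) from
          (hcz _ _ _).trans (congrArg (OX.germ (DCoh.toP.obj ΩZ) (p ⁻¹ᵁ U) hh.down) (hc₁ U s)), hψ, hD₁]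
      · refine (Submodule.Quotient.mk_eq_zero K).2 ?_
        show ψ (cz (E₂.germ z U hh.down s)) = E₂.germ z U hh.down s
        rw [show cz (E₂.germ z U hh.down s) = dg dZ (q ⁻¹ᵁ U) hh.down (q.app U s) from
          (hcz _ _ _).trans (congrArg (OX.germ (DCoh.toP.obj ΩZ) (q ⁻¹ᵁ U) hh.down) (hc₂ U s)), hψ, hD₂]
    have hq : qq = 0 := hom_ext_sky z (congrArg (fun t : M ⟶ OX.skyObj z N => t.val) hαβ)
    exact LinearMap.ext fun m => (Submodule.Quotient.mk_eq_zero K).1 (LinearMap.congr_fun hq m)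
  have hcD : cz.toAddMonoidHom.comp D = (stalkDer z dZ).toLinearMap.toAddMonoidHom := by
    refine stalk_der_ext hsq z _ _ (fun r r' => ?_) (fun r r' => (stalkD_leibniz z dZ r r').1)
      (fun U hz s => ?_) (fun U hz s => ?_)
    · show cz (D (r * r')) = r • cz (D r') + r' • cz (D r)
      rw [hD, map_add cz, map_smul cz, map_smul cz]
    · show cz (D _) = stalkD z dZ _
      rw [hD₁, stalkD_germ]
      exact (hcz _ _ _).trans (congrArg (OX.germ (DCoh.toP.obj ΩZ) (p ⁻¹ᵁ U) hz) (hc₁ U s))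
    · show cz (D _) = stalkD z dZ _
      rw [hD₂, stalkD_germ]
      exact (hcz _ _ _).trans (congrArg (OX.germ (DCoh.toP.obj ΩZ) (q ⁻¹ᵁ U) hz) (hc₂ U s))
  have hcψ : cz.comp ψ = LinearMap.id := LinearMap.eqLocus_eq_top.1 (eq_top_of_dg_mem z hdZ _ fun U hz s => by
    show cz (ψ (dg dZ U hz s)) = dg dZ U hz s
    rw [hψ]
    exact (congr($hcD (Z.presheaf.germ U z hz s))).trans (stalkD_germ z dZ U hz s))
  refine ⟨⟨ModuleCat.ofHom ψ, ?_, ?_⟩⟩
  · exact ModuleCat.hom_ext hψc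
  · exact ModuleCat.hom_ext hcψ

end Fib

/-- The pullback of a derivation as a family. -/
def DerFam.ofPullback (p : Z ⟶ X) {S : Scheme.{u}} {a : X ⟶ S} {Ω : X.Modules} (d : OmegaSh.Der a Ω)
    (k : (Scheme.Modules.pullback p).obj Ω ⟶ M) : DerFam p M where
  e U := (k.app (p ⁻¹ᵁ U)).hom.comp ((OmegaSh.pullSect p Ω U).hom.comp (d.app U))
  map {U U'} h s := by
    show k.app _ (OmegaSh.pullSect p Ω U' (d.app U' (X.presheaf.map (homOfLE h).op s))) = _
    refine Eq.trans ?_ (congr($((Scheme.Modules.Hom.mapPresheaf k).naturality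
      (homOfLE (p.preimage_mono h)).op) (OmegaSh.pullSect p Ω U (d.app U s))))
    refine congrArg (k.app (p ⁻¹ᵁ U')) ?_
    exact (congrArg (OmegaSh.pullSect p Ω U') (d.d_map (homOfLE h).op s)).trans
      (OmegaSh.pullSect_map p Ω h _)
  mul U s t := by
    refine (congrArg (fun r => k.app (p ⁻¹ᵁ U) (OmegaSh.pullSect p Ω U r)) (d.d_mul (X := op U) s t)).trans ?_
    refine (congrArg (k.app (p ⁻¹ᵁ U)) ((map_add (OmegaSh.pullSect p Ω U).hom _ _).trans
      (congrArg₂ (· + ·) (OmegaSh.pullSect_smul p Ω U s _) (OmegaSh.pullSect_smul p Ω U t _)))).trans ?_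
    refine ((k.app (p ⁻¹ᵁ U)).hom.map_add _ _).trans ?_
    exact congrArg₂ (· + ·) (Scheme.Modules.Hom.app_smul k _ _) (Scheme.Modules.Hom.app_smul k _ _)

/-- The zero family. -/
def DerFam.zero (p : Z ⟶ X) (M : Z.Modules) : DerFam p M where
  e _ := 0
  map _ _ := (map_zero _).symm
  mul _ _ _ := by simp

theorem DerFam.ofPullback_base (p : Z ⟶ X) {S : Scheme.{u}} {a : X ⟶ S} {Ω : X.Modules}
    (d : OmegaSh.Der a Ω) (k : (Scheme.Modules.pullback p).obj Ω ⟶ M) (V : S.Opens) (s : Γ(S, V)) :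
    (DerFam.ofPullback p d k).e (a ⁻¹ᵁ V) (a.app V s) = 0 := by
  refine (congrArg (fun r => k.app _ (OmegaSh.pullSect p Ω _ r)) (d.d_app (X := op V) s)).trans ?_
  rw [map_zero, map_zero]

theorem DerFam.germ_zero_of_eq (E : DerFam p M) (z : Z) (U : X.Opens) (hz : z ∈ p ⁻¹ᵁ U) (s : Γ(X, U))
    (h : E.e U s = 0) : E.germ z U hz s = 0 :=
  (congrArg (OX.germ (DCoh.toP.obj M) (p ⁻¹ᵁ U) hz) h).trans (map_zero _)

end GrothLib.PPGen
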