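import Groth.Prelude.Def_Omega4
import Mathlib.AlgebraicGeometry.Morphisms.Preimmersion
import Mathlib.Topology.Sheaves.SheafCondition.UniqueGluing

/-!
# Descending derivations along preimmersions
-/

set_option autoImplicit false
set_option backward.isDefEq.respectTransparency false

universe u

open CategoryTheory AlgebraicGeometry Opposite

noncomputable section

namespace GrothLib.PPGen

variable {X Y Z : Scheme.{u}} (j : X ⟶ Y)

theorem exists_preimage_eq [IsPreimmersion j] (V : X.Opens) : ∃ W : Y.Opens, j ⁻¹ᵁ W = V := by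
  obtain ⟨W, hW, e⟩ := j.isEmbedding.isInducing.isOpen_iff.1 V.2
  exact ⟨⟨W, hW⟩, TopologicalSpace.Opens.ext e⟩

/-- A family `E` on the ambient scheme that kills what `j` kills is a derivation on the subscheme. -/
theorem exists_descend [IsPreimmersion j] (f : Y ⟶ Z) (G : X.Modules)
    (E : ∀ W : Y.Opens, Γ(Y, W) →+ Γ(G, j ⁻¹ᵁ W))
    (hmap : ∀ {W W' : Y.Opens} (e : W' ≤ W) (b : Γ(Y, W)),
      E W' (Y.presheaf.map (homOfLE e).op b) = G.presheaf.map (homOfLE (j.preimage_mono e)).op (E W b))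
    (hker : ∀ (W : Y.Opens) (c : Γ(Y, W)), j.app W c = 0 → E W c = 0)
    (hmul : ∀ (W : Y.Opens) (a b : Γ(Y, W)),
      E W (a * b) = j.app W a • E W b + j.app W b • E W a)
    (hbase : ∀ (V : Z.Opens) (a : Γ(Z, V)), E (f ⁻¹ᵁ V) (f.app V a) = 0) :
    ∃ δ : OmegaSh.Der (j ≫ f) G, ∀ (W : Y.Opens) (b : Γ(Y, W)),
      δ.app (j ⁻¹ᵁ W) (j.app W b) = E W b := by
  let r : ∀ {U V : X.Opens}, V ≤ U → Γ(G, U) → Γ(G, V) := fun e t => G.presheaf.map (homOfLE e).op t
  let rX : ∀ {U V : X.Opens}, V ≤ U → Γ(X, U) → Γ(X, V) := fun e t => X.presheaf.map (homOfLE e).op t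
  have hrr : ∀ {U V W : X.Opens} (e : V ≤ U) (e' : W ≤ V) (t : Γ(G, U)),
      r e' (r e t) = r (e'.trans e) t := fun e e' t => OmegaSh.resM_resM _ _ t
  have hrrX : ∀ {U V W : X.Opens} (e : V ≤ U) (e' : W ≤ V) (t : Γ(X, U)),
      rX e' (rX e t) = rX (e'.trans e) t := fun e e' t => by
    show X.presheaf.map _ (X.presheaf.map _ t) = _
    rw [← ConcreteCategory.comp_apply, ← X.presheaf.map_comp]
    rfl
  have happ : ∀ {W W' : Y.Opens} (e : W' ≤ W) (b : Γ(Y, W)),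
      j.app W' (Y.presheaf.map (homOfLE e).op b) = rX (j.preimage_mono e) (j.app W b) := fun e b =>
    congr($(j.naturality (homOfLE e).op) b)
  -- independence of the lift
  have hind : ∀ (W W' : Y.Opens) (b : Γ(Y, W)) (b' : Γ(Y, W')) (V : X.Opens)
      (e : V ≤ j ⁻¹ᵁ W) (e' : V ≤ j ⁻¹ᵁ W'), rX e (j.app W b) = rX e' (j.app W' b') →
      r e (E W b) = r e' (E W' b') := by
    intro W W' b b' V e e' h
    obtain ⟨W₀, rfl⟩ := exists_preimage_eq j V
    let W'' := W ⊓ W' ⊓ W₀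
    have l₁ : W'' ≤ W := inf_le_left.trans inf_le_left
    have l₂ : W'' ≤ W' := inf_le_left.trans inf_le_right
    have hV : j ⁻¹ᵁ W₀ ≤ j ⁻¹ᵁ W'' := fun x hx => ⟨⟨e hx, e' hx⟩, hx⟩
    have hV' : j ⁻¹ᵁ W'' ≤ j ⁻¹ᵁ W₀ := j.preimage_mono inf_le_right
    have hc : j.app W'' (Y.presheaf.map (homOfLE l₁).op b - Y.presheaf.map (homOfLE l₂).op b') = 0 := by
      rw [map_sub, happ, happ, sub_eq_zero]
      have h1 := congrArg (rX hV') h
      rwa [hrrX, hrrX] at h1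
    have h2 := hker _ _ hc
    rw [map_sub, hmap, hmap, sub_eq_zero] at h2
    have h3 := congrArg (r hV) h2
    change r hV (r (j.preimage_mono l₁) (E W b)) = r hV (r (j.preimage_mono l₂) (E W' b')) at h3
    rwa [hrr, hrr] at h3
  -- local lifts
  have hlift : ∀ (U : X.Opens) (s : Γ(X, U)) (x : X), x ∈ U →
      ∃ (W : Y.Opens) (b : Γ(Y, W)) (V : X.Opens) (eU : V ≤ U) (eW : V ≤ j ⁻¹ᵁ W),
        x ∈ V ∧ rX eU s = rX eW (j.app W b) := by
    intro U s x hx
    obtain ⟨β, hβ⟩ := j.stalkMap_surjective x (X.presheaf.germ U x hx s)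
    obtain ⟨W, hxW, b, rfl⟩ := Y.presheaf.exists_germ_eq β
    rw [Scheme.Hom.germ_stalkMap_apply] at hβ
    obtain ⟨V, hxV, iU, iW, hV⟩ := X.presheaf.germ_eq x hx (U := U) (V := j ⁻¹ᵁ W) hxW s (j.app W b) hβ.symm
    exact ⟨W, b, V, iU.le, iW.le, hxV, hV⟩
  let Good : ∀ U : X.Opens, Γ(X, U) → Γ(G, U) → Prop := fun U s t =>
    ∀ (W : Y.Opens) (b : Γ(Y, W)) (V : X.Opens) (eU : V ≤ U) (eW : V ≤ j ⁻¹ᵁ W),
      rX eU s = rX eW (j.app W b) → r eU t = r eW (E W b)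
  have hexu : ∀ (U : X.Opens) (s : Γ(X, U)), ∃ t, Good U s t := by
    intro U s
    choose W b V eU eW hxV hs using fun x : U => hlift U s x.1 x.2
    have hcomp : TopCat.Presheaf.IsCompatible G.presheaf V fun x => r (eW x) (E (W x) (b x)) := by
      intro x y
      show r inf_le_left (r (eW x) (E (W x) (b x))) = r inf_le_right (r (eW y) (E (W y) (b y)))
      rw [hrr, hrr]
      refine hind _ _ _ _ _ _ _ ?_
      have hx := congrArg (rX (inf_le_left : V x ⊓ V y ≤ V x)) (hs x)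
      have hy := congrArg (rX (inf_le_right : V x ⊓ V y ≤ V y)) (hs y)
      rw [hrrX, hrrX] at hx hy
      exact hx.symm.trans hy
    obtain ⟨t, ht, -⟩ := TopCat.Sheaf.existsUnique_gluing' ⟨G.presheaf, G.isSheaf⟩ V U
      (fun x => homOfLE (eU x)) (fun x hx => TopologicalSpace.Opens.mem_iSup.2 ⟨⟨x, hx⟩, hxV _⟩) _ hcomp
    refine ⟨t, fun W' b' V' eU' eW' h => ?_⟩
    refine TopCat.Sheaf.eq_of_locally_eq' ⟨G.presheaf, G.isSheaf⟩ (fun x : V' => V' ⊓ V ⟨x, eU' x.2⟩) V'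
      (fun x => homOfLE inf_le_left) (fun x hx => TopologicalSpace.Opens.mem_iSup.2 ⟨⟨x, hx⟩, hx, hxV _⟩)
      _ _ fun x => ?_
    show r inf_le_left (r eU' t) = r inf_le_left (r eW' (E W' b'))
    let x' : U := ⟨x.1, eU' x.2⟩
    have ht' : r (eU x') t = r (eW x') (E (W x') (b x')) := ht x'
    rw [hrr, hrr]
    have h1 := congrArg (r (inf_le_right : V' ⊓ V x' ≤ V x')) ht'
    rw [hrr, hrr] at h1
    refine h1.trans (hind _ _ _ _ _ _ _ ?_)
    have hx := congrArg (rX (inf_le_right : V' ⊓ V x' ≤ V x')) (hs x')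
    have hy := congrArg (rX (inf_le_left : V' ⊓ V x' ≤ V')) h
    rw [hrrX, hrrX] at hx hy
    exact hx.symm.trans hy
  choose d hd using hexu
  have hloc : ∀ (U : X.Opens) (t t' : Γ(G, U)),
      (∀ x ∈ U, ∃ (V : X.Opens) (e : V ≤ U), x ∈ V ∧ r e t = r e t') → t = t' := by
    intro U t t' h
    choose V e hx he using fun x : U => h x.1 x.2
    exact TopCat.Sheaf.eq_of_locally_eq' ⟨G.presheaf, G.isSheaf⟩ V U (fun x => homOfLE (e x))
      (fun x hx' => TopologicalSpace.Opens.mem_iSup.2 ⟨⟨x, hx'⟩, hx _⟩) t t' he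
  -- compute with one lift
  have hcomm : ∀ (U : X.Opens) (s s' : Γ(X, U)) (x : X), x ∈ U →
      ∃ (W : Y.Opens) (b b' : Γ(Y, W)) (V : X.Opens) (eU : V ≤ U) (eW : V ≤ j ⁻¹ᵁ W),
        x ∈ V ∧ rX eU s = rX eW (j.app W b) ∧ rX eU s' = rX eW (j.app W b') := by
    intro U s s' x hx
    obtain ⟨W₁, b₁, V₁, u₁, w₁, hx₁, h₁⟩ := hlift U s x hx
    obtain ⟨W₂, b₂, V₂, u₂, w₂, hx₂, h₂⟩ := hlift U s' x hx
    refine ⟨W₁ ⊓ W₂, Y.presheaf.map (homOfLE inf_le_left).op b₁, Y.presheaf.map (homOfLE inf_le_right).op b₂,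
      V₁ ⊓ V₂, inf_le_left.trans u₁, fun y hy => ⟨w₁ hy.1, w₂ hy.2⟩, ⟨hx₁, hx₂⟩, ?_, ?_⟩
    · have h := congrArg (rX (inf_le_left : V₁ ⊓ V₂ ≤ V₁)) h₁
      rw [hrrX, hrrX] at h
      rw [happ, hrrX]
      exact h
    · have h := congrArg (rX (inf_le_right : V₁ ⊓ V₂ ≤ V₂)) h₂
      rw [hrrX, hrrX] at h
      rw [happ, hrrX]
      exact h
  have hadd : ∀ (U : X.Opens) (s s' : Γ(X, U)), d U (s + s') = d U s + d U s' := by
    refine fun U s s' => hloc U _ _ fun x hx => ?_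
    obtain ⟨W, b, b', V, eU, eW, hxV, h, h'⟩ := hcomm U s s' x hx
    refine ⟨V, eU, hxV, ?_⟩
    have hs : rX eU (s + s') = rX eW (j.app W (b + b')) := by
      show X.presheaf.map _ _ = X.presheaf.map _ _
      rw [map_add, map_add, map_add]
      exact congrArg₂ (· + ·) h h'
    rw [hd U _ W _ V eU eW hs]
    show G.presheaf.map _ (E W (b + b')) = G.presheaf.map _ (d U s + d U s')
    rw [map_add, map_add, map_add]
    exact (congrArg₂ (· + ·) (hd U _ W _ V eU eW h) (hd U _ W _ V eU eW h')).symm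
  have hm : ∀ (U : X.Opens) (s s' : Γ(X, U)), d U (s * s') = s • d U s' + s' • d U s := by
    refine fun U s s' => hloc U _ _ fun x hx => ?_
    obtain ⟨W, b, b', V, eU, eW, hxV, h, h'⟩ := hcomm U s s' x hx
    refine ⟨V, eU, hxV, ?_⟩
    have hs : rX eU (s * s') = rX eW (j.app W (b * b')) := by
      show X.presheaf.map _ _ = X.presheaf.map _ _
      rw [map_mul, map_mul, map_mul]
      exact congrArg₂ (· * ·) h h'
    rw [hd U _ W _ V eU eW hs, hmul]
    show G.presheaf.map _ (_ + _) = G.presheaf.map _ (_ + _)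
    rw [map_add, map_add, Scheme.Modules.map_smul, Scheme.Modules.map_smul, Scheme.Modules.map_smul,
      Scheme.Modules.map_smul]
    exact congrArg₂ (· + ·) (congrArg₂ (· • ·) h.symm (hd U _ W _ V eU eW h').symm)
      (congrArg₂ (· • ·) h'.symm (hd U _ W _ V eU eW h).symm)
  have hnat : ∀ {U U' : X.Opens} (e : U' ≤ U) (s : Γ(X, U)), d U' (rX e s) = r e (d U s) := by
    refine fun {U U'} e s => hloc U' _ _ fun x hx => ?_
    obtain ⟨W, b, V, eU, eW, hxV, h⟩ := hlift U' (rX e s) x hx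
    refine ⟨V, eU, hxV, ?_⟩
    rw [hd U' _ W b V eU eW h, hrr]
    rw [hrrX] at h
    exact (hd U s W b V (eU.trans e) eW h).symm
  have hval : ∀ (W : Y.Opens) (b : Γ(Y, W)), d (j ⁻¹ᵁ W) (j.app W b) = E W b := fun W b => by
    refine hloc _ _ _ fun x hx => ⟨j ⁻¹ᵁ W, le_rfl, hx, ?_⟩
    exact hd _ _ W b _ le_rfl le_rfl rfl
  refine ⟨{ d := fun {U} => AddMonoidHom.mk' (d U.unop) (hadd U.unop)
            d_mul := fun {U} a b => hm U.unop a b
            d_map := fun {U U'} i s => hnat i.unop.le s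
            d_app := fun {V} a => (hval (f ⁻¹ᵁ V.unop) (f.app V.unop a)).trans (hbase V.unop a) }, hval⟩

end GrothLib.PPGen
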