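import Groth.Agent.Lib.PPGen.Gen
import Groth.Agent.Lib.FSchSys.Ker
import Mathlib.CategoryTheory.Adjunction.FullyFaithful

/-!
# Functoriality of infinitesimal neighbourhoods and of principal parts
-/

set_option autoImplicit false
set_option linter.style.haveILetI false
set_option backward.isDefEq.respectTransparency false
set_option maxHeartbeats 800000

universe u

open CategoryTheory CategoryTheory.Limits AlgebraicGeometry Opposite

noncomputable section

namespace GrothLib.PPGen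

open PrinPart

theorem ker_pow_le_map {X Y X' Y' : Scheme.{u}} (i : Y ⟶ X) (i' : Y' ⟶ X') (g : X ⟶ X') (gZ : Y ⟶ Y')
    (w : gZ ≫ i' = i ≫ g) (n : ℕ) : i'.ker ^ n ≤ (i.ker ^ n).map g := by
  have h : i'.ker ≤ i.ker.map g := by
    rw [Scheme.IdealSheafData.map_ker, ← w]
    exact gZ.le_ker_comp i'
  rw [Scheme.IdealSheafData.le_map_iff_comap_le, GrothLib.FSchSys.comap_pow]
  intro U
  rw [Scheme.IdealSheafData.ideal_pow, Scheme.IdealSheafData.ideal_pow]
  exact Ideal.pow_right_mono (Scheme.IdealSheafData.le_map_iff_comap_le.1 h U) n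

/-- A commutative square of immersions induces a map of infinitesimal neighbourhoods. -/
theorem exists_infNbhd_map {X Y X' Y' : Scheme.{u}} (i : Y ⟶ X) (i' : Y' ⟶ X') (g : X ⟶ X')
    (gZ : Y ⟶ Y') (w : gZ ≫ i' = i ≫ g) (n : ℕ) :
    ∃ k : infNbhd i n ⟶ infNbhd i' n, k ≫ infNbhdι i' n = infNbhdι i n ≫ g :=
  ⟨Scheme.IdealSheafData.subschemeMap _ _ g (ker_pow_le_map i i' g gZ w (n + 1)),
    Scheme.IdealSheafData.subschemeMap_subschemeι _ _ _ _⟩

theorem mono_infNbhdι {X Y : Scheme.{u}} (i : Y ⟶ X) (n : ℕ) : Mono (infNbhdι i n) := by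
  unfold infNbhdι
  infer_instance

theorem isIso_inclusion {X : Scheme.{u}} {I J : X.IdealSheafData} (h : I ≤ J) (e : I = J) :
    IsIso (Scheme.IdealSheafData.inclusion h) := by
  subst e
  have h1 : Scheme.IdealSheafData.inclusion h = 𝟙 _ := by
    rw [← cancel_mono I.subschemeι, Scheme.IdealSheafData.inclusion_subschemeι, Category.id_comp]
  rw [h1]
  infer_instance

theorem isIso_toInfNbhd_zero {X Y : Scheme.{u}} (i : Y ⟶ X) [IsClosedImmersion i] :
    IsIso (toInfNbhd i 0) := by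
  haveI := isIso_inclusion (ker_pow_succ_le i 0) (pow_one i.ker)
  unfold toInfNbhd
  infer_instance

variable {X S : Scheme.{u}} (f : X ⟶ S)

theorem pr1_eq_pr2 : pr1 f 0 = pr2 f 0 := by
  haveI := isIso_toInfNbhd_zero (diagCl f)
  rw [← cancel_epi (toNbhd f 0), toNbhd_pr1, toNbhd_pr2]

theorem isIso_pr2 : IsIso (pr2 f 0) := by
  haveI := isIso_toInfNbhd_zero (diagCl f)
  haveI : IsIso (toNbhd f 0 ≫ pr2 f 0) := by rw [toNbhd_pr2]; infer_instance
  exact IsIso.of_isIso_comp_left (toNbhd f 0) (pr2 f 0)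

theorem app_congr {Y Z : Scheme.{u}} {g g' : Y ⟶ Z} (h : g = g') (U : Z.Opens) (e : g ⁻¹ᵁ U ≤ g' ⁻¹ᵁ U)
    (a : Γ(Z, U)) : g.app U a = Y.presheaf.map (homOfLE e).op (g'.app U a) := by
  subst h
  rw [show (homOfLE e).op = 𝟙 _ from Subsingleton.elim _ _, Y.presheaf.map_id]
  rfl

/-- The unit of the adjunction along an isomorphism is an isomorphism. -/
theorem isIso_unit {Y Z : Scheme.{u}} (g : Y ⟶ Z) [IsIso g] :
    IsIso (Scheme.Modules.pullbackPushforwardAdjunction g).unit := by
  haveI : (Scheme.Modules.pushforward g).IsEquivalence :=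
    (CategoryTheory.Equivalence.mk (Scheme.Modules.pushforward g) (Scheme.Modules.pushforward (inv g))
      ((Scheme.Modules.pushforwardId Y).symm ≪≫
        Scheme.Modules.pushforwardCongr (IsIso.hom_inv_id g).symm ≪≫
        (Scheme.Modules.pushforwardComp g (inv g)).symm)
      (Scheme.Modules.pushforwardComp (inv g) g ≪≫
        Scheme.Modules.pushforwardCongr (IsIso.inv_hom_id g) ≪≫
        Scheme.Modules.pushforwardId Z)).isEquivalence_functor
  haveI : (Scheme.Modules.pullback g).IsEquivalence :=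
    (Scheme.Modules.pullbackPushforwardAdjunction g).isEquivalence_left_of_isEquivalence_right
  infer_instance

variable (n : ℕ) (F : X.Modules)

/-- The `O_X`-linear `d⁰ : F ⟶ P⁰(F)`. -/
def dZero : F ⟶ PMod f 0 F :=
  (Scheme.Modules.pullbackPushforwardAdjunction (pr2 f 0)).unit.app F ≫
    (Scheme.Modules.pushforwardCongr (pr1_eq_pr2 f).symm).hom.app
      ((Scheme.Modules.pullback (pr2 f 0)).obj F)

theorem dZero_app (U : X.Opens) (t : Γ(F, U)) : (dZero f F).app U t = dP f 0 F U t := by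
  rw [dZero, Scheme.Modules.Hom.comp_app, ConcreteCategory.comp_apply,
    Scheme.Modules.pushforwardCongr_hom_app_app]
  rfl

theorem isIso_dZero : IsIso (dZero f F) := by
  haveI := isIso_pr2 f
  haveI := isIso_unit (pr2 f 0)
  unfold dZero
  infer_instance

theorem mapM_mapM {M : X.Modules} {A B C : X.Opens} (j₁ : B ⟶ A) (j₂ : C ⟶ B) (x : Γ(M, A)) :
    M.presheaf.map j₂.op (M.presheaf.map j₁.op x) = M.presheaf.map (j₂ ≫ j₁).op x :=
  OmegaSh.resM_resM j₁ j₂ x

/-- A map of schemes over two maps induces a map of direct images of pullbacks. -/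
theorem exists_pushPull_map {X Z Z' : Scheme.{u}} (F : X.Modules) (p q : Z ⟶ X) (p' q' : Z' ⟶ X)
    (k : Z' ⟶ Z) (h₁ : k ≫ p = p') (h₂ : k ≫ q = q')
    (e : ∀ U : X.Opens, p ⁻¹ᵁ U ≤ q ⁻¹ᵁ U) (e' : ∀ U : X.Opens, p' ⁻¹ᵁ U ≤ q' ⁻¹ᵁ U) :
    ∃ φ : (Scheme.Modules.pushforward p).obj ((Scheme.Modules.pullback q).obj F) ⟶
        (Scheme.Modules.pushforward p').obj ((Scheme.Modules.pullback q').obj F),
      ∀ (U : X.Opens) (t : Γ(F, U)),
        φ.app U (((Scheme.Modules.pullback q).obj F).presheaf.map (homOfLE (e U)).op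
            (OmegaSh.pullSect q F U t)) =
          ((Scheme.Modules.pullback q').obj F).presheaf.map (homOfLE (e' U)).op
            (OmegaSh.pullSect q' F U t) := by
  subst h₁ h₂
  let Mn := (Scheme.Modules.pullback (k ≫ q)).obj F
  let Mm := (Scheme.Modules.pullback q).obj F
  let θ : F ⟶ (Scheme.Modules.pushforward q).obj ((Scheme.Modules.pushforward k).obj Mn) :=
    (Scheme.Modules.pullbackPushforwardAdjunction (k ≫ q)).unit.app F ≫
      (Scheme.Modules.pushforwardComp k q).inv.app Mn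
  let ψ : Mm ⟶ (Scheme.Modules.pushforward k).obj Mn :=
    ((Scheme.Modules.pullbackPushforwardAdjunction q).homEquiv _ _).symm θ
  refine ⟨(Scheme.Modules.pushforward p).map ψ ≫
    (Scheme.Modules.pushforwardComp k p).hom.app Mn, fun U t => ?_⟩
  have h3 : (Scheme.Modules.pullbackPushforwardAdjunction q).unit.app F ≫
      (Scheme.Modules.pushforward q).map ψ = θ :=
    ((Scheme.Modules.pullbackPushforwardAdjunction q).homEquiv_unit _ _ _).symm.trans
      (Equiv.apply_symm_apply _ θ)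
  have hψ : ψ.app (q ⁻¹ᵁ U) (OmegaSh.pullSect q F U t) = θ.app U t := congr($(h3).app U t)
  have hnat : ψ.app (p ⁻¹ᵁ U) (Mm.presheaf.map (homOfLE (e U)).op (OmegaSh.pullSect q F U t)) =
      ((Scheme.Modules.pushforward k).obj Mn).presheaf.map (homOfLE (e U)).op
        (ψ.app (q ⁻¹ᵁ U) (OmegaSh.pullSect q F U t)) :=
    congr($((Scheme.Modules.Hom.mapPresheaf ψ).naturality (homOfLE (e U)).op) (OmegaSh.pullSect q F U t))
  rw [hψ] at hnat
  simp only [Scheme.Modules.Hom.comp_app, ConcreteCategory.comp_apply,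
    Scheme.Modules.pushforwardComp_hom_app_app]
  exact hnat

/-- A map of neighbourhoods over both projections induces a map of principal parts. -/
theorem exists_PMod_map {m n : ℕ} (k : nbhd f n ⟶ nbhd f m) (h₁ : k ≫ pr1 f m = pr1 f n)
    (h₂ : k ≫ pr2 f m = pr2 f n) :
    ∃ φ : PMod f m F ⟶ PMod f n F, ∀ (U : X.Opens) (t : Γ(F, U)),
      φ.app U (dP f m F U t) = dP f n F U t :=
  exists_pushPull_map F (pr1 f m) (pr2 f m) (pr1 f n) (pr2 f n) k h₁ h₂
    (fun U => (preimage_pr1 f m U).le) (fun U => (preimage_pr1 f n U).le)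

end GrothLib.PPGen
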