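import Mathlib.AlgebraicGeometry.Modules.Tilde

/-!
# Maps out of quasi-coherent modules on an affine scheme, via global sections
-/

set_option autoImplicit false
set_option backward.isDefEq.respectTransparency false

universe u

open CategoryTheory AlgebraicGeometry Opposite

noncomputable section

namespace GrothLib.PPGen

variable {R : CommRingCat.{u}}

theorem smul_top (M : (Spec R).Modules) (b : R) (m : (moduleSpecΓFunctor (R := R)).obj M) :
    (show Γ(M, (⊤ : (Spec R).Opens)) from b • m) =
      ((Scheme.ΓSpecIso R).inv b : Γ(Spec R, (⊤ : (Spec R).Opens))) •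
        (show Γ(M, (⊤ : (Spec R).Opens)) from m) := by
  refine (Scheme.Modules.smul_Spec_def b m).trans ?_
  refine congrArg (· • (show Γ(M, (⊤ : (Spec R).Opens)) from m)) ?_
  show (Spec R).presheaf.map (𝟙 _) _ = _
  rw [CategoryTheory.Functor.map_id]
  rfl

/-- Global sections of `tilde M` from elements of `M`. -/
def topSect (M : ModuleCat.{u} R) : M →+ Γ(tilde M, (⊤ : (Spec R).Opens)) :=
  (tilde.isoTop M).hom.hom.toAddMonoidHom

/-- Elements of `M` from global sections of `tilde M`. -/
def ofTopSect (M : ModuleCat.{u} R) : Γ(tilde M, (⊤ : (Spec R).Opens)) →+ M :=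
  (tilde.isoTop M).inv.hom.toAddMonoidHom

theorem topSect_ofTopSect (M : ModuleCat.{u} R) (m : Γ(tilde M, (⊤ : (Spec R).Opens))) :
    topSect M (ofTopSect M m) = m := congr($((tilde.isoTop M).inv_hom_id) m)

theorem ofTopSect_topSect (M : ModuleCat.{u} R) (l : M) :
    ofTopSect M (topSect M l) = l := congr($((tilde.isoTop M).hom_inv_id) l)

theorem topSect_smul (M : ModuleCat.{u} R) (b : R) (l : M) :
    topSect M (b • l) = (Scheme.ΓSpecIso R).inv b • topSect M l :=
  (map_smul (tilde.isoTop M).hom.hom b l).trans (smul_top (tilde M) b _)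

theorem ofTopSect_smul (M : ModuleCat.{u} R) (b : R) (m : Γ(tilde M, (⊤ : (Spec R).Opens))) :
    ofTopSect M ((Scheme.ΓSpecIso R).inv b • m) = b • ofTopSect M m :=
  (congrArg (ofTopSect M) (by rw [topSect_smul, topSect_ofTopSect])).trans
    (ofTopSect_topSect M (b • ofTopSect M m))

theorem hom_ext_top (M N : (Spec R).Modules) [M.IsQuasicoherent] (u v : M ⟶ N)
    (h : ∀ m : Γ(M, (⊤ : (Spec R).Opens)), u.app ⊤ m = v.app ⊤ m) : u = v := by
  let T := tilde.adjunction (R := R)
  haveI : IsIso (T.counit.app M) := Scheme.Modules.isIso_fromTildeΓ_of_isQuasicoherent M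
  rw [← cancel_epi (T.counit.app M)]
  refine (T.counit.naturality u).symm.trans (Eq.trans ?_ (T.counit.naturality v))
  refine congrArg (· ≫ T.counit.app N) (congrArg (tilde.functor R).map ?_)
  exact ModuleCat.hom_ext (LinearMap.ext h)

theorem exists_hom_top (M N : (Spec R).Modules) [M.IsQuasicoherent]
    (g : Γ(M, (⊤ : (Spec R).Opens)) →+ Γ(N, (⊤ : (Spec R).Opens)))
    (hg : ∀ (r : R) (m : Γ(M, (⊤ : (Spec R).Opens))),
      g ((Scheme.ΓSpecIso R).inv r • m) = (Scheme.ΓSpecIso R).inv r • g m) :
    ∃ u : M ⟶ N, ∀ m, u.app ⊤ m = g m := by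
  let T := tilde.adjunction (R := R)
  haveI : IsIso (T.counit.app M) := Scheme.Modules.isIso_fromTildeΓ_of_isQuasicoherent M
  let A := (moduleSpecΓFunctor (R := R)).obj M
  let B := (moduleSpecΓFunctor (R := R)).obj N
  let l : A →ₗ[R] B :=
    { toFun := fun m => g m
      map_add' := fun m m' => g.map_add m m'
      map_smul' := fun r m => (congrArg g (smul_top M r m)).trans ((hg r m).trans (smul_top N r _).symm) }
  let g' : A ⟶ B := ModuleCat.ofHom (X := A) (Y := B) l
  let u : M ⟶ N := inv (T.counit.app M) ≫ (T.homEquiv _ _).symm g'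
  have hu : (moduleSpecΓFunctor (R := R)).map u = g' := by
    refine (T.homEquiv _ _).symm.injective ?_
    rw [T.homEquiv_counit]
    exact (T.counit.naturality u).trans (IsIso.hom_inv_id_assoc _ _)
  exact ⟨u, fun m => (congrArg (fun φ => φ.hom m) hu : _)⟩

end GrothLib.PPGen
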