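import Groth.Agent.Lib.PPGen.Maps
import Groth.Agent.Lib.FSchSys.Ker
import Groth.Agent.Lib.ProjFormula.Map

/-!
# Sections of principal parts as functions on the infinitesimal neighbourhood
-/

set_option autoImplicit false
set_option linter.style.haveILetI false
set_option backward.isDefEq.respectTransparency false
set_option maxHeartbeats 800000

universe u

open CategoryTheory CategoryTheory.Limits AlgebraicGeometry Opposite
open GrothLib

noncomputable section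

namespace GrothLib.PPGen

open PrinPart

variable {X S : Scheme.{u}} (f : X ⟶ S) (n : ℕ)

theorem comap_subschemeι_self {Y : Scheme.{u}} (K : Y.IdealSheafData) : K.comap K.subschemeι = ⊥ := by
  refine le_bot_iff.mp (Scheme.IdealSheafData.le_map_iff_comap_le.mp ?_)
  rw [Scheme.IdealSheafData.map_bot, Scheme.IdealSheafData.ker_subschemeι]

/-- The ideal of the diagonal section in the `n`-th neighbourhood has vanishing `(n+1)`-st power. -/
theorem ker_toNbhd_pow_eq_bot : (toNbhd f n).ker ^ (n + 1) = ⊥ := by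
  haveI := mono_infNbhdι (diagCl f) n
  have h : (toNbhd f n).ker = (diagCl f).ker.comap (infNbhdι (diagCl f) n) :=
    GrothLib.FSchSys.ker_eq_comap_of_comp_eq (toInfNbhd_ι (diagCl f) n)
  rw [h, ← GrothLib.FSchSys.comap_pow]
  exact comap_subschemeι_self _

/-- A product of `n + 1` functions vanishing on the diagonal is zero. -/
theorem prod_eq_zero (W : (nbhd f n).Opens) (d : Fin (n + 1) → Γ(nbhd f n, W))
    (hd : ∀ i, (toNbhd f n).app W (d i) = 0) : ∏ i, d i = 0 := by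
  haveI := isClosedImmersion_toNbhd f n
  refine TopCat.Presheaf.section_ext (C := CommRingCat.{u}) (nbhd f n).sheaf W _ _ fun z hz => ?_
  obtain ⟨T, hT, hzT, hTW⟩ := exists_isAffineOpen_mem_and_subset hz
  let e : T ≤ W := hTW
  have hmem : ∀ i, (nbhd f n).presheaf.map (homOfLE e).op (d i) ∈ (toNbhd f n).ker.ideal ⟨T, hT⟩ := fun i => by
    rw [Scheme.Hom.ker_apply, RingHom.mem_ker, ← ConcreteCategory.comp_apply]
    show ((nbhd f n).presheaf.map (homOfLE e).op ≫ (toNbhd f n).app T) (d i) = 0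
    rw [(toNbhd f n).naturality, ConcreteCategory.comp_apply, hd i, map_zero]
  have hprod : ∏ i, (nbhd f n).presheaf.map (homOfLE e).op (d i) ∈
      ((toNbhd f n).ker ^ (n + 1)).ideal ⟨T, hT⟩ := by
    rw [Scheme.IdealSheafData.ideal_pow]
    have h1 : ∏ i, (nbhd f n).presheaf.map (homOfLE e).op (d i) ∈
        ∏ _i : Fin (n + 1), (toNbhd f n).ker.ideal ⟨T, hT⟩ := Ideal.prod_mem_prod fun i _ => hmem i
    rwa [Finset.prod_const, Finset.card_univ, Fintype.card_fin] at h1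
  rw [ker_toNbhd_pow_eq_bot, Scheme.IdealSheafData.ideal_bot, Pi.bot_apply, Ideal.mem_bot,
    ← map_prod] at hprod
  show (nbhd f n).presheaf.germ W z hz (∏ i, d i) = (nbhd f n).presheaf.germ W z hz 0
  rw [map_zero, ← TopCat.Presheaf.germ_res_apply (nbhd f n).presheaf (homOfLE e) z hzT (∏ i, d i)]
  exact (congrArg _ hprod).trans (map_zero _)

/-- `pr₂♯ a` read over `pr₁⁻¹ U`. -/
def pr2Fn (U : X.Opens) : Γ(X, U) →+* Γ(nbhd f n, pr1 f n ⁻¹ᵁ U) :=
  ((nbhd f n).presheaf.map (homOfLE (preimage_pr1 f n U).le).op).hom.comp ((pr2 f n).app U).hom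

/-- `pr₁♯ a`. -/
def pr1Fn (U : X.Opens) : Γ(X, U) →+* Γ(nbhd f n, pr1 f n ⁻¹ᵁ U) := ((pr1 f n).app U).hom

theorem section_app {N Y : Scheme.{u}} (s : Y ⟶ N) (p : N ⟶ Y) (h : s ≫ p = 𝟙 Y) (U : Y.Opens)
    (W : N.Opens) (e : W ≤ p ⁻¹ᵁ U) (e' : s ⁻¹ᵁ W ≤ U) (a : Γ(Y, U)) :
    s.app W (p.appLE U W e a) = Y.presheaf.map (homOfLE e').op a := by
  have h1 : (s ≫ p).appLE U (s ⁻¹ᵁ W) (fun y hy => e hy) a = Y.presheaf.map (homOfLE e').op a := by
    have h2 : ∀ (q : Y ⟶ Y) (hq : q = 𝟙 Y) (e₁ : s ⁻¹ᵁ W ≤ q ⁻¹ᵁ U),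
        q.appLE U (s ⁻¹ᵁ W) e₁ a = Y.presheaf.map (homOfLE e').op a := by
      rintro q rfl e₁
      rfl
    exact h2 _ h _
  rw [← h1, ← ConcreteCategory.comp_apply, Scheme.Hom.app_eq_appLE, Scheme.Hom.appLE_comp_appLE]

theorem preimage_toNbhd_pr1_le (U : X.Opens) : toNbhd f n ⁻¹ᵁ (pr1 f n ⁻¹ᵁ U) ≤ U := fun x hx => by
  have h : pr1 f n (toNbhd f n x) ∈ U := hx
  rwa [pr1_toNbhd_apply] at h

theorem toNbhd_app_pr1Fn (U : X.Opens) (a : Γ(X, U)) :
    (toNbhd f n).app (pr1 f n ⁻¹ᵁ U) (pr1Fn f n U a) =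
      X.presheaf.map (homOfLE (preimage_toNbhd_pr1_le f n U)).op a := by
  rw [← section_app (toNbhd f n) (pr1 f n) (toNbhd_pr1 f n) U (pr1 f n ⁻¹ᵁ U) le_rfl
    (preimage_toNbhd_pr1_le f n U) a, ← Scheme.Hom.app_eq_appLE]
  rfl

theorem toNbhd_app_pr2Fn (U : X.Opens) (a : Γ(X, U)) :
    (toNbhd f n).app (pr1 f n ⁻¹ᵁ U) (pr2Fn f n U a) =
      X.presheaf.map (homOfLE (preimage_toNbhd_pr1_le f n U)).op a := by
  rw [← section_app (toNbhd f n) (pr2 f n) (toNbhd_pr2 f n) U (pr1 f n ⁻¹ᵁ U) (preimage_pr1 f n U).le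
    (preimage_toNbhd_pr1_le f n U) a]
  rfl

/-- The alternating products vanish. -/
theorem prod_sub_eq_zero (U : X.Opens) (a : Fin (n + 1) → Γ(X, U)) :
    ∏ i, (pr1Fn f n U (a i) - pr2Fn f n U (a i)) = 0 :=
  prod_eq_zero f n _ _ fun i => by
    rw [map_sub, toNbhd_app_pr1Fn, toNbhd_app_pr2Fn, sub_self]

/-- A section of the principal parts of the structure sheaf as a function on the neighbourhood. -/
def pfn (U : X.Opens) (s : Γ(P f n, U)) : Γ(nbhd f n, pr1 f n ⁻¹ᵁ U) :=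
  OmegaSh.fnSect _ _ ((OX.pullUnitIso (pr2 f n)).hom.app (pr1 f n ⁻¹ᵁ U) s)

theorem pfn_injective (U : X.Opens) : Function.Injective (pfn f n U) :=
  fun _ _ h => (ConcreteCategory.bijective_of_isIso
    ((OX.pullUnitIso (pr2 f n)).hom.app (pr1 f n ⁻¹ᵁ U))).1 h

theorem pfn_add (U : X.Opens) (s t : Γ(P f n, U)) : pfn f n U (s + t) = pfn f n U s + pfn f n U t :=
  map_add ((OX.pullUnitIso (pr2 f n)).hom.app (pr1 f n ⁻¹ᵁ U)).hom s t

theorem pfn_smul (U : X.Opens) (a : Γ(X, U)) (s : Γ(P f n, U)) :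
    pfn f n U (a • s) = pr1Fn f n U a * pfn f n U s :=
  Scheme.Modules.Hom.app_smul (OX.pullUnitIso (pr2 f n)).hom ((pr1 f n).app U a) s

theorem pfn_dn (U : X.Opens) (b : Γ(X, U)) : pfn f n U (dn f n U b) = pr2Fn f n U b := by
  have h := congr($((Scheme.Modules.Hom.mapPresheaf (OX.pullUnitIso (pr2 f n)).hom).naturality
    (homOfLE (preimage_pr1 f n U).le).op)
      (OmegaSh.pullSect (pr2 f n) (Coh.structureModule X) U (OmegaSh.strSect X U b)))
  refine Eq.trans (h : _) ?_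
  exact congrArg ((nbhd f n).presheaf.map (homOfLE (preimage_pr1 f n U).le).op)
    (ProjFormula.pullUnitIso_pullSec (pr2 f n) U b)

end GrothLib.PPGen

namespace GrothLib.PPGen

open PrinPart

variable {X S : Scheme.{u}} (f : X ⟶ S) (n : ℕ)

theorem app_congr_le {Y Z : Scheme.{u}} {g g' : Y ⟶ Z} (h : g = g') (V : Z.Opens) (W : Y.Opens)
    (e : W ≤ g ⁻¹ᵁ V) (e' : W ≤ g' ⁻¹ᵁ V) (a : Γ(Z, V)) : g.appLE V W e a = g'.appLE V W e' a := by
  subst h
  rfl

theorem pr1Fn_base (V : S.Opens) (U : X.Opens) (hU : U ≤ f ⁻¹ᵁ V) (s : Γ(S, V)) :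
    pr1Fn f n U (X.presheaf.map (homOfLE hU).op (f.app V s)) =
      pr2Fn f n U (X.presheaf.map (homOfLE hU).op (f.app V s)) := by
  have h1 : pr1Fn f n U (X.presheaf.map (homOfLE hU).op (f.app V s)) =
      (pr1 f n ≫ f).appLE V (pr1 f n ⁻¹ᵁ U) (fun y hy => hU hy) s := by
    rw [← Scheme.Hom.appLE_comp_appLE (pr1 f n) f V U (pr1 f n ⁻¹ᵁ U) hU le_rfl,
      ← Scheme.Hom.app_eq_appLE]
    rfl
  have h2 : pr2Fn f n U (X.presheaf.map (homOfLE hU).op (f.app V s)) =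
      (pr2 f n ≫ f).appLE V (pr1 f n ⁻¹ᵁ U)
        (fun y hy => hU ((preimage_pr1 f n U).le hy)) s := by
    rw [← Scheme.Hom.appLE_comp_appLE (pr2 f n) f V U (pr1 f n ⁻¹ᵁ U) hU (preimage_pr1 f n U).le]
    rfl
  rw [h1, h2]
  exact app_congr_le (pr1_comp f n) V _ _ _ s

theorem dn_base (V : S.Opens) (U : X.Opens) (hU : U ≤ f ⁻¹ᵁ V) (s : Γ(S, V)) :
    dn f n U (X.presheaf.map (homOfLE hU).op (f.app V s)) =
      X.presheaf.map (homOfLE hU).op (f.app V s) • dn f n U 1 :=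
  pfn_injective f n U (by rw [pfn_smul, pfn_dn, pfn_dn, map_one, mul_one, pr1Fn_base])

theorem dn_one_mul (U : X.Opens) (a b : Γ(X, U)) :
    dn f 1 U (a * b) + (a * b) • dn f 1 U 1 = a • dn f 1 U b + b • dn f 1 U a := by
  refine pfn_injective f 1 U ?_
  have h := prod_sub_eq_zero f 1 U ![a, b]
  rw [Fin.prod_univ_two] at h
  simp only [Matrix.cons_val_zero, Matrix.cons_val_one] at h
  simp only [pfn_add, pfn_smul, pfn_dn, map_mul, map_one, mul_one]
  linear_combination h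

end GrothLib.PPGen
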