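import Groth.Agent.Lib.PPGen.Stalk
import Groth.Agent.Lib.PPGen.Sections

/-!
# Functions on infinitesimal neighbourhoods over affine opens
-/

set_option autoImplicit false
set_option linter.style.haveILetI false
set_option backward.isDefEq.respectTransparency false
set_option maxHeartbeats 800000

universe u

open CategoryTheory CategoryTheory.Limits AlgebraicGeometry Opposite

noncomputable section

namespace GrothLib.PPGen

open PrinPart

theorem map_comap_pow_of_bijective {R R' : Type u} [CommRing R] [CommRing R'] (e : R →+* R')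
    (he : Function.Bijective e) (I : Ideal R') (k : ℕ) : (I ^ k).comap e = I.comap e ^ k := by
  let E : R ≃+* R' := RingEquiv.ofBijective e he
  have h : ∀ J : Ideal R', J.comap e = J.map (E.symm : R' →+* R) := fun J =>
    (Ideal.map_symm (f := E)).symm
  rw [h, h, Ideal.map_pow]

variable {X S : Scheme.{u}} (f : X ⟶ S) (n : ℕ)

theorem preimage_W (U : X.Opens) :
    pr1 f n ⁻¹ᵁ U ≤ nbhdι f n ⁻¹ᵁ (pullback.fst f f ⁻¹ᵁ U ⊓ pullback.snd f f ⁻¹ᵁ U) :=
  fun _ hz => ⟨hz, (preimage_pr1 f n U).le hz⟩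

theorem preimage_W' (U : X.Opens) :
    nbhdι f n ⁻¹ᵁ (pullback.fst f f ⁻¹ᵁ U ⊓ pullback.snd f f ⁻¹ᵁ U) ≤ pr1 f n ⁻¹ᵁ U :=
  fun _ hz => hz.1

theorem le_preimage_diag (U : X.Opens) :
    U ≤ pullback.diagonal f ⁻¹ᵁ (pullback.fst f f ⁻¹ᵁ U ⊓ pullback.snd f f ⁻¹ᵁ U) := fun x hx => by
  constructor
  · show pullback.fst f f (pullback.diagonal f x) ∈ U
    rw [← Scheme.Hom.comp_apply, pullback.diagonal_fst]; exact hx
  · show pullback.snd f f (pullback.diagonal f x) ∈ U
    rw [← Scheme.Hom.comp_apply, pullback.diagonal_snd]; exact hx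

/-- Restriction of functions on `U ×_V U` to the neighbourhood. -/
def restrictFn (U : X.Opens) :
    Γ(pullback f f, pullback.fst f f ⁻¹ᵁ U ⊓ pullback.snd f f ⁻¹ᵁ U) →+* Γ(nbhd f n, pr1 f n ⁻¹ᵁ U) :=
  ((nbhdι f n).appLE _ _ (preimage_W f n U)).hom

theorem restrictFn_fst (U : X.Opens) (t : Γ(X, U)) :
    restrictFn f n U ((pullback.fst f f).appLE U _ inf_le_left t) = pr1Fn f n U t := by
  show ((pullback.fst f f).appLE U _ inf_le_left ≫ (nbhdι f n).appLE _ _ (preimage_W f n U)) t = _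
  rw [Scheme.Hom.appLE_comp_appLE, pr1Fn, Scheme.Hom.app_eq_appLE]
  rfl

theorem restrictFn_snd (U : X.Opens) (t : Γ(X, U)) :
    restrictFn f n U ((pullback.snd f f).appLE U _ inf_le_right t) = pr2Fn f n U t := by
  show ((pullback.snd f f).appLE U _ inf_le_right ≫ (nbhdι f n).appLE _ _ (preimage_W f n U)) t = _
  rw [Scheme.Hom.appLE_comp_appLE]
  rfl

/-- Over affine opens the neighbourhood is cut out by the power of the ideal of the diagonal. -/
theorem restrictFn_surjective_and_ker {V : S.Opens} (hV : IsAffineOpen V) {U : X.Opens}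
    (hU : IsAffineOpen U) (hUV : U ≤ f ⁻¹ᵁ V) :
    Function.Surjective (restrictFn f n U) ∧
      RingHom.ker (restrictFn f n U) =
        RingHom.ker ((pullback.diagonal f).appLE _ U (le_preimage_diag f U)).hom ^ (n + 1) := by
  obtain ⟨hW, -⟩ := closure_appLE_eq_top f hV hU hUV
  set W := pullback.fst f f ⁻¹ᵁ U ⊓ pullback.snd f f ⁻¹ᵁ U with hWdef
  let Ω := (pullback.diagonal f).coborderRange
  have hWΩ : W ≤ Ω := le_coborderRange f hV hU hUV
  let W' : (Ω : Scheme.{u}).Opens := Ω.ι ⁻¹ᵁ W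
  have hW' : IsAffineOpen W' := hW.preimage_of_isOpenImmersion Ω.ι (by rwa [Scheme.Opens.opensRange_ι])
  haveI : IsIso (Ω.ι.app W) := Scheme.Hom.isIso_app Ω.ι W (by rwa [Scheme.Opens.opensRange_ι])
  haveI : IsClosedImmersion (infNbhdι (diagCl f) n) := by unfold infNbhdι; infer_instance
  let e := (Ω.ι.app W).hom
  have he : Function.Bijective e := ConcreteCategory.bijective_of_isIso (Ω.ι.app W)
  let T := nbhdι f n ⁻¹ᵁ W
  let r : Γ(nbhd f n, T) →+* Γ(nbhd f n, pr1 f n ⁻¹ᵁ U) :=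
    ((nbhd f n).presheaf.map (homOfLE (preimage_W f n U)).op).hom
  have hr : Function.Bijective r := by
    have h1 : T = pr1 f n ⁻¹ᵁ U := le_antisymm (preimage_W' f n U) (preimage_W f n U)
    have h2 : (homOfLE (preimage_W f n U)).op = (eqToHom h1.symm).op := Subsingleton.elim _ _
    show Function.Bijective ((nbhd f n).presheaf.map (homOfLE (preimage_W f n U)).op)
    rw [h2]
    exact ConcreteCategory.bijective_of_isIso _
  let ι' := ((infNbhdι (diagCl f) n).app W').hom
  have hι : Function.Surjective ι' := ((diagCl f).ker ^ (n + 1)).subschemeι_app_surjective ⟨W', hW'⟩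
  have hfac : ∀ c, restrictFn f n U c = r (ι' (e c)) := fun c => rfl
  refine ⟨fun t => ?_, ?_⟩
  · obtain ⟨t, rfl⟩ := hr.2 t
    obtain ⟨c', rfl⟩ := hι t
    obtain ⟨c, rfl⟩ := he.2 c'
    exact ⟨c, hfac c⟩
  have hk1 : RingHom.ker (restrictFn f n U) = ((diagCl f).ker.ideal ⟨W', hW'⟩ ^ (n + 1)).comap e := by
    ext c
    rw [RingHom.mem_ker, hfac, map_eq_zero_iff r hr.1, Ideal.mem_comap]
    have h3 : ((diagCl f).ker ^ (n + 1)).ideal ⟨W', hW'⟩ = (diagCl f).ker.ideal ⟨W', hW'⟩ ^ (n + 1) := by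
      rw [Scheme.IdealSheafData.ideal_pow]; rfl
    rw [← h3, ← Scheme.IdealSheafData.ker_subschemeι_app, RingHom.mem_ker]
    rfl
  rw [hk1, map_comap_pow_of_bijective e he]
  congr 1
  ext c
  rw [Ideal.mem_comap, Scheme.Hom.ker_apply, RingHom.mem_ker, RingHom.mem_ker]
  have hU' : U ≤ (diagCl f ≫ Ω.ι) ⁻¹ᵁ W := by
    rw [Scheme.Hom.liftCoborder_ι]; exact le_preimage_diag f U
  have h4 : (pullback.diagonal f).appLE W U (le_preimage_diag f U) c =
      X.presheaf.map (homOfLE hU').op ((diagCl f).app W' (e c)) := by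
    rw [← app_congr_le (Scheme.Hom.liftCoborder_ι (pullback.diagonal f)) W U hU' (le_preimage_diag f U)]
    rfl
  rw [h4]
  have h5 : (diagCl f ≫ Ω.ι) ⁻¹ᵁ W ≤ U := fun x hx => by
    have h6 : pullback.fst f f ((diagCl f ≫ Ω.ι) x) ∈ U := hx.1
    rwa [Scheme.Hom.liftCoborder_ι, ← Scheme.Hom.comp_apply, pullback.diagonal_fst] at h6
  constructor
  · intro h
    erw [h, map_zero]
  · intro h
    have h7 := congrArg (X.presheaf.map (homOfLE h5).op) h
    rw [← ConcreteCategory.comp_apply, ← Functor.map_comp, map_zero] at h7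
    rw [show (homOfLE hU').op ≫ (homOfLE h5).op = 𝟙 _ from Subsingleton.elim _ _, X.presheaf.map_id] at h7
    exact h7

end GrothLib.PPGen
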