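import Groth.Agent.Lib.QCoh.ClosedImmersion
import Groth.Agent.Lib.OX.Exact

/-!
# Direct image along a morphism which is a homeomorphism
-/

set_option autoImplicit false
set_option linter.style.haveILetI false
set_option maxHeartbeats 1000000

universe u

open CategoryTheory CategoryTheory.Limits AlgebraicGeometry Opposite TopologicalSpace

namespace GrothLib.PPGen

open GrothLib.OX (stalk germ_exists stalkPre_map_germ) in
theorem pushStalkHom_natural' {X Y : Scheme.{u}} (f : X ⟶ Y) (x : X) {N N' : X.Modules} (a : N ⟶ N') :
    (stalk (f x)).map ((Scheme.Modules.pushforward f).map a) ≫ QCoh.pushStalkHom f x N' =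
      QCoh.pushStalkHom f x N ≫ (ModuleCat.restrictScalars (f.stalkMap x).hom).map ((stalk x).map a) := by
  refine ModuleCat.hom_ext (LinearMap.ext fun e => ?_)
  obtain ⟨V, hV, s, rfl⟩ := germ_exists ((Scheme.Modules.pushforward f).obj N).val e
  change (QCoh.pushStalkHom f x N').hom (((stalk (f x)).map ((Scheme.Modules.pushforward f).map a)).hom _) =
    ((stalk x).map a).hom ((QCoh.pushStalkHom f x N).hom _)
  refine (congrArg (QCoh.pushStalkHom f x N').hom
    (stalkPre_map_germ (DCoh.toP.map ((Scheme.Modules.pushforward f).map a)) V hV s)).trans ?_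
  refine (QCoh.pushStalkHom_germ f x N' V hV _).trans (Eq.symm ?_)
  exact (congrArg ((stalk x).map a).hom (QCoh.pushStalkHom_germ f x N V hV s)).trans
    (stalkPre_map_germ (DCoh.toP.map a) (f ⁻¹ᵁ V) hV s)

variable {X Y : Scheme.{u}} (f : X ⟶ Y) (hi : Topology.IsInducing f.base)

/-- The stalks of a direct image along an inducing map. -/
noncomputable def pushStalkIso' (x : X) :
    Scheme.Modules.pushforward f ⋙ OX.stalk (f x) ≅
      OX.stalk x ⋙ ModuleCat.restrictScalars (f.stalkMap x).hom :=
  have : ∀ N, IsIso (QCoh.pushStalkHom f x N) := fun N =>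
    (ConcreteCategory.isIso_iff_bijective _).2 (QCoh.pushStalkHom_bijective f x N hi)
  NatIso.ofComponents (fun N => asIso (QCoh.pushStalkHom f x N)) fun a => pushStalkHom_natural' f x a

variable (hs : Function.Surjective f)

include hi hs in
theorem exact_pushforward_homeo [(Scheme.Modules.pushforward f).PreservesZeroMorphisms]
    {S : ShortComplex X.Modules} (hS : S.Exact) : (S.map (Scheme.Modules.pushforward f)).Exact := by
  refine (OX.exact_iff _).2 fun y => ?_
  obtain ⟨x, rfl⟩ := hs y
  exact (ShortComplex.exact_iff_of_iso (S.mapNatIso (pushStalkIso' f hi x))).2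
    ((hS.map (OX.stalk x)).map (ModuleCat.restrictScalars (f.stalkMap x).hom))

include hi hs in
theorem preservesFiniteColimits_pushforward_homeo :
    PreservesFiniteColimits (Scheme.Modules.pushforward f) := by
  have : (Scheme.Modules.pushforward f).Additive :=
    (Scheme.Modules.pullbackPushforwardAdjunction f).right_adjoint_additive
  have : (Scheme.Modules.pushforward f).PreservesHomology :=
    Functor.preservesHomology_of_map_exact _ fun _ hS => exact_pushforward_homeo f hi hs hS
  exact (Scheme.Modules.pushforward f).preservesFiniteColimits_of_preservesHomology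

include hi hs in
/-- Direct image along a homeomorphism preserves colimits. -/
theorem preservesColimitsOfSize_pushforward_homeo :
    PreservesColimitsOfSize.{u, u} (Scheme.Modules.pushforward f) :=
  ⟨fun {J} _ => ⟨fun {K} => OX.preservesColimit_of_stalk _ fun y => by
    obtain ⟨x, rfl⟩ := hs y
    exact preservesColimit_of_natIso K (pushStalkIso' f hi x).symm⟩⟩

end GrothLib.PPGen
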