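import Groth.Agent.Lib.PPGen.Finite
import Groth.Agent.Lib.PPGen.Homeo
import Groth.Agent.Lib.OX.PullbackFlat
import Groth.Agent.Lib.AssPts.Flat
import Groth.Agent.S5969

/-!
# Flat principal parts mean flat projections
-/

set_option autoImplicit false
set_option linter.style.haveILetI false
set_option backward.isDefEq.respectTransparency false
set_option maxHeartbeats 800000

universe u

open CategoryTheory CategoryTheory.Limits AlgebraicGeometry Opposite
open scoped TensorProduct

noncomputable section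

namespace GrothLib.PPGen

open PrinPart GrothLib

variable {X Y : Scheme.{u}}

/-- The stalk of the pullback of the structure sheaf. -/
theorem exists_stalk_pull_unit_equiv (g : X ⟶ Y) (x : X) :
    Nonempty (X.presheaf.stalk x ≃ₗ[X.presheaf.stalk x]
      (OX.stalk x).obj ((Scheme.Modules.pullback g).obj (Coh.structureModule Y))) := by
  letI := (g.stalkMap x).hom.toAlgebra
  obtain ⟨e⟩ := AssPts.exists_stalk_unit_equiv (g x)
  let e' : Y.presheaf.stalk (g x) ≃ₗ[Y.presheaf.stalk (g x)]
      (OX.stalk (g x)).obj (Coh.structureModule Y) := e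
  let E : X.presheaf.stalk x ≃ₗ[X.presheaf.stalk x]
      X.presheaf.stalk x ⊗[Y.presheaf.stalk (g x)] (OX.stalk (g x)).obj (Coh.structureModule Y) :=
    (TensorProduct.AlgebraTensorModule.rid (Y.presheaf.stalk (g x)) (X.presheaf.stalk x)
      (X.presheaf.stalk x)).symm ≪≫ₗ
      (TensorProduct.AlgebraTensorModule.congr (LinearEquiv.refl (X.presheaf.stalk x) (X.presheaf.stalk x)) e')
  exact ⟨E ≪≫ₗ ((OX.pullStalkIso g x).app (Coh.structureModule Y)).toLinearEquiv.symm⟩

/-- A ring map is flat when a rank one free module is flat after restriction. -/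
theorem flat_of_restrict {R B : Type u} [CommRing R] [CommRing B] (φ : R →+* B)
    (M : ModuleCat.{u} B) (E : B ≃ₗ[B] M) (N : ModuleCat.{u} R)
    (i : N ≅ (ModuleCat.restrictScalars φ).obj M) [Module.Flat R N] : φ.Flat := by
  algebraize [φ]
  let e : B ≃ₗ[R] (ModuleCat.restrictScalars φ).obj M :=
    { E.toAddEquiv with
      map_smul' := fun r m => by
        show E (φ r * m) = φ r • E m
        exact E.map_smul (φ r) m }
  exact Module.Flat.of_linearEquiv (e ≪≫ₗ i.toLinearEquiv.symm)

variable {S : Scheme.{u}} (f : X ⟶ S) (n : ℕ)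

theorem flat_pr1 (hP : FlatMod.IsFlat (P f n)) : Flat (pr1 f n) := by
  rw [Flat.iff_flat_stalkMap]
  intro z
  obtain ⟨E⟩ := exists_stalk_pull_unit_equiv (pr2 f n) z
  let M := (Scheme.Modules.pullback (pr2 f n)).obj (Coh.structureModule X)
  exact @flat_of_restrict _ _ _ _ ((pr1 f n).stalkMap z).hom ((OX.stalk z).obj M) E
    ((OX.stalk (pr1 f n z)).obj ((Scheme.Modules.pushforward (pr1 f n)).obj M))
    ((pushStalkIso' (pr1 f n) (isInducing_pr1 f n).1 z).app M) (hP (pr1 f n z))

theorem flat_pr2 (hP : FlatMod.IsFlat (P f n)) : Flat (pr2 f n) := by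
  haveI := flat_pr1 f n hP
  obtain ⟨σ, -, hσσ, hσ₁, -⟩ := Groth.Agent.S5969.result f n
  haveI : IsIso σ := ⟨σ, hσσ, hσσ⟩
  rw [← hσ₁]
  infer_instance

end GrothLib.PPGen
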