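import Groth.Prelude.Def_OmegaPn
import Mathlib.AlgebraicGeometry.Morphisms.Flat
import Mathlib.AlgebraicGeometry.Morphisms.QuasiCompact

/-!
# The local rings of infinitesimal neighbourhoods of a diagonal are generated by both projections
-/

set_option autoImplicit false
set_option linter.style.haveILetI false

universe u

open CategoryTheory CategoryTheory.Limits AlgebraicGeometry Opposite

noncomputable section

namespace GrothLib.PPGen

open PrinPart

variable {X S : Scheme.{u}} (f : X ⟶ S)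

/-- The functions on `U ×_V U` are generated by functions on the factors. -/
theorem closure_appLE_eq_top {V : S.Opens} (hV : IsAffineOpen V) {U : X.Opens} (hU : IsAffineOpen U)
    (hUV : U ≤ f ⁻¹ᵁ V) :
    let W := pullback.fst f f ⁻¹ᵁ U ⊓ pullback.snd f f ⁻¹ᵁ U
    IsAffineOpen W ∧
    Subring.closure (Set.range ((pullback.fst f f).appLE U W inf_le_left).hom ∪
      Set.range ((pullback.snd f f).appLE U W inf_le_right).hom) = ⊤ := by
  intro W
  have H := IsPullback.of_hasPullback f f
  haveI : IsAffine _ := hU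
  haveI : IsAffine _ := hV
  refine ⟨.of_isIso (Scheme.Hom.isPullback_resLE H (US := V) (UT := U) (UX := U) (UY := W)
    hUV hUV rfl).isoPullback.hom, ?_⟩
  have hP : IsPushout (f.appLE V U hUV) (f.appLE V U hUV)
      ((pullback.fst f f).appLE U W inf_le_left) ((pullback.snd f f).appLE U W inf_le_right) :=
    (AlgebraicGeometry.isIso_pushoutSection_iff H (US := V) (UT := U) (UX := U) (UY := W)
      hUV hUV rfl).1
      (AlgebraicGeometry.isIso_pushoutSection_of_isAffineOpen H hUV hUV rfl hV hU hU)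
  let T := Subring.closure (Set.range ((pullback.fst f f).appLE U W inf_le_left).hom ∪
      Set.range ((pullback.snd f f).appLE U W inf_le_right).hom)
  let a : Γ(X, U) ⟶ CommRingCat.of T := CommRingCat.ofHom
    (((pullback.fst f f).appLE U W inf_le_left).hom.codRestrict T
      fun t => Subring.subset_closure (Or.inl ⟨t, rfl⟩))
  let b : Γ(X, U) ⟶ CommRingCat.of T := CommRingCat.ofHom
    (((pullback.snd f f).appLE U W inf_le_right).hom.codRestrict T
      fun t => Subring.subset_closure (Or.inr ⟨t, rfl⟩))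
  let i : CommRingCat.of T ⟶ Γ(pullback f f, W) := CommRingCat.ofHom T.subtype
  have hab : f.appLE V U hUV ≫ a = f.appLE V U hUV ≫ b :=
    CommRingCat.hom_ext (RingHom.ext fun t => Subtype.ext (ConcreteCategory.congr_hom hP.w t))
  have hd : hP.desc a b hab ≫ i = 𝟙 _ := by
    refine hP.hom_ext ?_ ?_
    · rw [IsPushout.inl_desc_assoc, Category.comp_id]; rfl
    · rw [IsPushout.inr_desc_assoc, Category.comp_id]; rfl
  refine eq_top_iff.2 fun t _ => ?_
  have h1 : (hP.desc a b hab t : T).1 = t := ConcreteCategory.congr_hom hd t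
  rw [← h1]
  exact (hP.desc a b hab t : T).2

/-- A germ whose pullback along a surjective closed immersion vanishes is nilpotent. -/
theorem isNilpotent_of_stalkMap_eq_zero {Y Z : Scheme.{u}} (g : Y ⟶ Z) [IsClosedImmersion g]
    (hg : Function.Surjective g) (y : Y) (η : Z.presheaf.stalk (g y)) (h : g.stalkMap y η = 0) :
    IsNilpotent η := by
  obtain ⟨V, hV, s, rfl⟩ := Z.presheaf.exists_germ_eq η
  rw [Scheme.Hom.germ_stalkMap_apply] at h
  obtain ⟨V', hV', i₁, i₂, hz⟩ := TopCat.Presheaf.germ_eq (C := CommRingCat.{u}) Y.presheaf (y : Y)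
    (show y ∈ g ⁻¹ᵁ V from hV) (show y ∈ g ⁻¹ᵁ V from hV) (g.app V s) 0 (by rw [h, map_zero])
  rw [map_zero] at hz
  obtain ⟨W, hW, hWV⟩ := g.isClosedEmbedding.isInducing.isOpen_iff.mp V'.2
  have hyW : g y ∈ W := by
    have : y ∈ g ⁻¹' W := by rw [hWV]; exact hV'
    exact this
  obtain ⟨W', hW', hyW', hle⟩ := exists_isAffineOpen_mem_and_subset (x := g y)
    (U := (⟨W, hW⟩ : Z.Opens) ⊓ V) ⟨hyW, hV⟩
  have hle' : g ⁻¹ᵁ W' ≤ V' := fun t ht => by
    have : t ∈ g ⁻¹' W := (hle ht).1
    rwa [hWV] at this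
  let e : W' ≤ V := fun t ht => (hle ht).2
  have h0 : g.app W' (Z.presheaf.map (homOfLE e).op s) = 0 := by
    rw [← ConcreteCategory.comp_apply, g.naturality, ConcreteCategory.comp_apply,
      show (TopologicalSpace.Opens.map g.base).map (homOfLE e).op.unop = homOfLE hle' ≫ i₁ from Subsingleton.elim _ _,
      op_comp, Functor.map_comp, ConcreteCategory.comp_apply, hz, map_zero]
  have hnil : IsNilpotent (Z.presheaf.map (homOfLE e).op s) := by
    rw [Scheme.isNilpotent_iff_basicOpen_eq_bot_of_isCompact hW'.isCompact]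
    refine eq_bot_iff.mpr fun t ht => ?_
    obtain ⟨t, rfl⟩ := hg t
    have h1 : t ∈ g ⁻¹ᵁ (Z.basicOpen (Z.presheaf.map (homOfLE e).op s)) := ht
    rw [Scheme.preimage_basicOpen, h0, Scheme.basicOpen_zero] at h1
    exact h1
  have h2 := hnil.map (Z.presheaf.germ W' (g y) hyW').hom
  rwa [TopCat.Presheaf.germ_res_apply] at h2

theorem stalkMap_germ_appLE {Y Z T : Scheme.{u}} (g : Y ⟶ Z) (h : Z ⟶ T) (U : T.Opens)
    (W : Z.Opens) (e : W ≤ h ⁻¹ᵁ U) (z : Y) (hz : g z ∈ W) (t : Γ(T, U)) :
    g.stalkMap z (Z.presheaf.germ W (g z) hz (h.appLE U W e t)) =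
      (g ≫ h).stalkMap z (T.presheaf.germ U ((g ≫ h) z) (e hz) t) := by
  have h1 : g.app W (h.appLE U W e t) =
      (g ≫ h).appLE U (g ⁻¹ᵁ W) (fun y hy => e hy) t := by
    rw [← ConcreteCategory.comp_apply, Scheme.Hom.app_eq_appLE, Scheme.Hom.appLE_comp_appLE]
  rw [Scheme.Hom.germ_stalkMap_apply, Scheme.Hom.germ_stalkMap_apply, h1, Scheme.Hom.appLE,
    ConcreteCategory.comp_apply]
  exact TopCat.Presheaf.germ_res_apply Y.presheaf _ _ _ _

theorem isClosedImmersion_toNbhd (n : ℕ) : IsClosedImmersion (toNbhd f n) := by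
  haveI : IsClosedImmersion (diagCl f).toImage := inferInstance
  unfold toNbhd toInfNbhd
  infer_instance

theorem stalkMap_pr_bijective (n : ℕ) (x : X) {q : nbhd f n ⟶ X} (hq : toNbhd f n ≫ q = 𝟙 X) :
    Function.Bijective (((toNbhd f n).stalkMap x).hom.comp (q.stalkMap (toNbhd f n x)).hom) := by
  have h : IsIso ((toNbhd f n ≫ q).stalkMap x) := by rw [hq]; infer_instance
  rw [Scheme.Hom.stalkMap_comp] at h
  exact @ConcreteCategory.bijective_of_isIso _ _ _ _ _ _ _ _ _ h

/-- Products of functions from the two factors span the local rings of `X^{(n)}_Δ` additively. -/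
theorem closure_stalk_eq_top (n : ℕ) (x : X) :
    AddSubgroup.closure (Set.range fun ab : X.presheaf.stalk (pr1 f n (toNbhd f n x)) ×
        X.presheaf.stalk (pr2 f n (toNbhd f n x)) =>
      (pr1 f n).stalkMap (toNbhd f n x) ab.1 * (pr2 f n).stalkMap (toNbhd f n x) ab.2) = ⊤ := by
  set z := toNbhd f n x
  let A := ((pr1 f n).stalkMap z).hom
  let B := ((pr2 f n).stalkMap z).hom
  set D := AddSubgroup.closure (Set.range fun ab : X.presheaf.stalk (pr1 f n z) ×
        X.presheaf.stalk (pr2 f n z) => A ab.1 * B ab.2) with hD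
  have hgen : ∀ a b, A a * B b ∈ D := fun a b => AddSubgroup.subset_closure ⟨(a, b), rfl⟩
  have hA : ∀ a, A a ∈ D := fun a => by simpa using hgen a 1
  have hB : ∀ b, B b ∈ D := fun b => by simpa using hgen 1 b
  have hmul : ∀ p ∈ D, ∀ q ∈ D, p * q ∈ D := by
    intro p hp q hq
    induction hp using AddSubgroup.closure_induction with
    | mem p hp =>
      obtain ⟨⟨a, b⟩, rfl⟩ := hp
      induction hq using AddSubgroup.closure_induction with
      | mem q hq =>
        obtain ⟨⟨a', b'⟩, rfl⟩ := hq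
        show A a * B b * (A a' * B b') ∈ D
        rw [mul_mul_mul_comm, ← map_mul, ← map_mul]
        exact hgen _ _
      | zero => rw [mul_zero]; exact D.zero_mem
      | add _ _ _ _ h h' => rw [mul_add]; exact D.add_mem h h'
      | neg _ _ h => rw [mul_neg]; exact D.neg_mem h
    | zero => rw [zero_mul]; exact D.zero_mem
    | add _ _ _ _ h h' => rw [add_mul]; exact D.add_mem h h'
    | neg _ _ h => rw [neg_mul]; exact D.neg_mem h
  let R : Subring ((nbhd f n).presheaf.stalk z) :=
    { carrier := D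
      one_mem' := by simpa using hgen 1 1
      mul_mem' := fun {p q} hp hq => hmul p hp q hq
      add_mem' := fun hp hq => D.add_mem hp hq
      zero_mem' := D.zero_mem
      neg_mem' := fun hp => D.neg_mem hp }
  haveI := isClosedImmersion_toNbhd f n
  let σ := ((toNbhd f n).stalkMap x).hom
  -- inverses stay in `D`
  have hinv : ∀ d ∈ D, IsUnit d → ∀ q, q * d = 1 → q ∈ D := by
    intro d hd hu q hq
    obtain ⟨a, ha⟩ := (stalkMap_pr_bijective f n x (toNbhd_pr1 f n)).2 (σ q)
    have ha' : σ (A a) = σ q := ha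
    have hη : IsNilpotent (1 - d * A a) := by
      refine isNilpotent_of_stalkMap_eq_zero (toNbhd f n) (toInfNbhd_surjective _ n) x _ ?_
      show σ (1 - d * A a) = 0
      rw [map_sub, map_mul, ha', ← map_mul, mul_comm, hq, sub_self]
    obtain ⟨m, hm⟩ := hη
    have hq' : q = A a * ∑ i ∈ Finset.range m, (1 - d * A a) ^ i := by
      have h1 := mul_neg_geom_sum (1 - d * A a) m
      rw [hm, sub_zero, sub_sub_cancel] at h1
      calc q = q * (d * A a * ∑ i ∈ Finset.range m, (1 - d * A a) ^ i) := by rw [h1, mul_one]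
        _ = q * d * (A a * ∑ i ∈ Finset.range m, (1 - d * A a) ^ i) := by ring
        _ = _ := by rw [hq, one_mul]
    rw [hq']
    exact hmul _ (hA a) _ (R.sum_mem fun i _ => R.pow_mem (R.sub_mem R.one_mem (hmul _ hd _ (hA a))) i)
  refine eq_top_iff.mpr fun w _ => ?_
  haveI : IsClosedImmersion (infNbhdι (diagCl f) n) := by unfold infNbhdι; infer_instance
  haveI : IsImmersion (nbhdι f n) := by unfold nbhdι; infer_instance
  let p := nbhdι f n z
  obtain ⟨w, rfl⟩ := (nbhdι f n).stalkMap_surjective z w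
  obtain ⟨V, hV, hxV, -⟩ := exists_isAffineOpen_mem_and_subset (x := f x) (U := ⊤) trivial
  obtain ⟨U, hU, hxU, hUV⟩ := exists_isAffineOpen_mem_and_subset (x := x) (U := f ⁻¹ᵁ V) hxV
  obtain ⟨hW, hgenW⟩ := closure_appLE_eq_top f hV hU hUV
  set W := pullback.fst f f ⁻¹ᵁ U ⊓ pullback.snd f f ⁻¹ᵁ U
  have hpW : p ∈ W := by
    constructor
    · show pr1 f n (toNbhd f n x) ∈ U
      rw [← Scheme.Hom.comp_apply, toNbhd_pr1]; exact hxU
    · show pr2 f n (toNbhd f n x) ∈ U
      rw [← Scheme.Hom.comp_apply, toNbhd_pr2]; exact hxU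
  letI := TopCat.Presheaf.algebra_section_stalk (pullback f f).presheaf ⟨p, hpW⟩
  haveI := hW.isLocalization_stalk ⟨p, hpW⟩
  let ψ : Γ(pullback f f, W) →+* (nbhd f n).presheaf.stalk z :=
    ((nbhdι f n).stalkMap z).hom.comp ((pullback f f).presheaf.germ W p hpW).hom
  have hψ1 : ∀ t, ψ ((pullback.fst f f).appLE U W inf_le_left t) ∈ D := fun t => by
    refine (congrArg (· ∈ D) (show ψ _ = A (X.presheaf.germ U (pr1 f n z) hpW.1 t) from ?_)).mpr (hA _)
    exact stalkMap_germ_appLE (nbhdι f n) (pullback.fst f f) U W _ z hpW t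
  have hψ2 : ∀ t, ψ ((pullback.snd f f).appLE U W inf_le_right t) ∈ D := fun t => by
    refine (congrArg (· ∈ D) (show ψ _ = B (X.presheaf.germ U (pr2 f n z) hpW.2 t) from ?_)).mpr (hB _)
    exact stalkMap_germ_appLE (nbhdι f n) (pullback.snd f f) U W _ z hpW t
  have hψ : ∀ s, ψ s ∈ D := fun s => by
    have hle : Subring.closure (Set.range ((pullback.fst f f).appLE U W inf_le_left).hom ∪
        Set.range ((pullback.snd f f).appLE U W inf_le_right).hom) ≤ R.comap ψ := by
      rw [Subring.closure_le]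
      rintro _ (⟨t, rfl⟩ | ⟨t, rfl⟩)
      · exact hψ1 t
      · exact hψ2 t
    rw [hgenW] at hle
    exact hle (Subring.mem_top s)
  obtain ⟨c, d, hcd⟩ := IsLocalization.exists_mk'_eq (hW.primeIdealOf ⟨p, hpW⟩).asIdeal.primeCompl w
  have hu := IsLocalization.map_units ((pullback f f).presheaf.stalk p) d
  obtain ⟨e, he⟩ := hu.exists_left_inv
  have hwe : w = algebraMap _ _ c * e := by
    rw [← IsLocalization.mk'_spec ((pullback f f).presheaf.stalk p) c d, hcd, mul_assoc,
      mul_comm (algebraMap _ _ _) e, he, mul_one]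
  show ((nbhdι f n).stalkMap z).hom w ∈ D
  rw [hwe, map_mul]
  refine hmul _ (hψ c) _ (hinv _ (hψ d) (hu.map ((nbhdι f n).stalkMap z).hom) _ ?_)
  exact (map_mul ((nbhdι f n).stalkMap z).hom _ _).symm.trans ((congrArg _ he).trans (map_one _))

end GrothLib.PPGen
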