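import Groth.Agent.Lib.PPGen.Ring
import Groth.Agent.Lib.PPGen.Sections
import Mathlib.RingTheory.Kaehler.Basic

/-!
# The local rings of infinitesimal neighbourhoods of a diagonal map to truncated tensor squares
-/

set_option autoImplicit false
set_option linter.style.haveILetI false
set_option backward.isDefEq.respectTransparency false
set_option maxHeartbeats 800000

universe u

open CategoryTheory CategoryTheory.Limits AlgebraicGeometry Opposite
open scoped TensorProduct

noncomputable section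

namespace GrothLib.PPGen

open PrinPart

variable {X S : Scheme.{u}} (f : X ⟶ S) (n : ℕ)

/-- `pr₁♯` on stalks, read at the point `pr₂ z`. -/
def stalkL (z : nbhd f n) : X.presheaf.stalk (pr2 f n z) →+* (nbhd f n).presheaf.stalk z :=
  (X.presheaf.stalkSpecializes (specializes_of_eq (pr1_apply f n z)) ≫ (pr1 f n).stalkMap z).hom

theorem stalkL_germ (z : nbhd f n) (U : X.Opens) (hy : pr2 f n z ∈ U) (a : Γ(X, U)) :
    stalkL f n z (X.presheaf.germ U (pr2 f n z) hy a) =
      (pr1 f n).stalkMap z (X.presheaf.germ U (pr1 f n z) ((pr1_apply f n z).symm ▸ hy) a) := by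
  show (pr1 f n).stalkMap z (X.presheaf.stalkSpecializes _ (X.presheaf.germ U (pr2 f n z) hy a)) = _
  rw [← ConcreteCategory.comp_apply (X.presheaf.germ U (pr2 f n z) hy),
    TopCat.Presheaf.germ_stalkSpecializes]

/-- An open `U ×_V U` lies in the open where the diagonal is closed. -/
theorem le_coborderRange {V : S.Opens} (hV : IsAffineOpen V) {U : X.Opens} (hU : IsAffineOpen U)
    (hUV : U ≤ f ⁻¹ᵁ V) :
    pullback.fst f f ⁻¹ᵁ U ⊓ pullback.snd f f ⁻¹ᵁ U ≤ (pullback.diagonal f).coborderRange := by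
  intro q hq
  obtain ⟨hW, -⟩ := closure_appLE_eq_top f hV hU hUV
  let W := pullback.fst f f ⁻¹ᵁ U ⊓ pullback.snd f f ⁻¹ᵁ U
  have hle : U ≤ pullback.diagonal f ⁻¹ᵁ W := fun x hx => by
    constructor
    · show pullback.fst f f (pullback.diagonal f x) ∈ U
      rw [← Scheme.Hom.comp_apply, pullback.diagonal_fst]; exact hx
    · show pullback.snd f f (pullback.diagonal f x) ∈ U
      rw [← Scheme.Hom.comp_apply, pullback.diagonal_snd]; exact hx
  let d' := (pullback.diagonal f).resLE W U hle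
  let p' := (pullback.fst f f).resLE U W inf_le_left
  haveI : IsAffine (U : Scheme.{u}) := hU
  haveI : IsAffine (W : Scheme.{u}) := hW
  have hdp : d' ≫ p' = 𝟙 _ := by
    rw [← cancel_mono U.ι]
    simp [d', p', pullback.diagonal_fst_assoc]
  haveI : IsClosedImmersion (d' ≫ p') := by rw [hdp]; infer_instance
  haveI : IsClosedImmersion d' := IsClosedImmersion.of_comp d' p'
  show q ∈ coborder (Set.range (pullback.diagonal f))
  intro hcl
  obtain ⟨hcl, hnot⟩ := hcl
  apply hnot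
  have h1 : q ∈ closure (Set.range (pullback.diagonal f) ∩ (W : Set _)) := by
    rw [Set.inter_comm]
    exact IsOpen.inter_closure W.2 ⟨hq, hcl⟩
  have h2 : Set.range (pullback.diagonal f) ∩ (W : Set _) ⊆ W.ι '' Set.range d' := by
    rintro _ ⟨⟨x, rfl⟩, hxW⟩
    have hxU : x ∈ U := by
      have h3 : pullback.fst f f (pullback.diagonal f x) ∈ U := hxW.1
      rwa [← Scheme.Hom.comp_apply, pullback.diagonal_fst] at h3
    refine ⟨d' ⟨x, hxU⟩, ⟨_, rfl⟩, ?_⟩
    rw [← Scheme.Hom.comp_apply, Scheme.Hom.resLE_comp_ι, Scheme.Hom.comp_apply]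
    rfl
  have h4 : (⟨q, hq⟩ : W) ∈ Set.range d' := by
    rw [← d'.isClosedEmbedding.isClosed_range.closure_eq,
      W.ι.isOpenEmbedding.isInducing.closure_eq_preimage_closure_image]
    exact closure_mono h2 h1
  obtain ⟨⟨x, hxU⟩, hx⟩ := h4
  refine ⟨x, ?_⟩
  have h5 : (d' ≫ W.ι) ⟨x, hxU⟩ = q := by rw [Scheme.Hom.comp_apply, hx]; rfl
  rw [Scheme.Hom.resLE_comp_ι, Scheme.Hom.comp_apply] at h5
  exact h5

/-- The local ring of the neighbourhood maps to the truncated tensor square of the local ring. -/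
theorem exists_theta (z : nbhd f n) :
    letI := (f.stalkMap (pr2 f n z)).hom.toAlgebra
    ∃ θ : (nbhd f n).presheaf.stalk z →+*
        (X.presheaf.stalk (pr2 f n z) ⊗[S.presheaf.stalk (f (pr2 f n z))] X.presheaf.stalk (pr2 f n z)) ⧸
          (KaehlerDifferential.ideal (S.presheaf.stalk (f (pr2 f n z))) (X.presheaf.stalk (pr2 f n z))) ^ (n + 1),
      ∀ a, θ (stalkL f n z a) = Ideal.Quotient.mk _ (a ⊗ₜ 1) ∧
        θ ((pr2 f n).stalkMap z a) = Ideal.Quotient.mk _ (1 ⊗ₜ a) := by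
  let y := pr2 f n z
  let p := nbhdι f n z
  have hzy : toNbhd f n y = z := by
    show toNbhd f n (pr2 f n z) = z
    rw [← pr1_apply, toNbhd_pr1_apply]
  have hpy : pullback.diagonal f y = p := by
    calc pullback.diagonal f y = (toNbhd f n ≫ nbhdι f n) y := by rw [toNbhd_ι]
      _ = nbhdι f n (toNbhd f n y) := Scheme.Hom.comp_apply _ _ _
      _ = p := congrArg _ hzy
  obtain ⟨V, hV, hyV, -⟩ := exists_isAffineOpen_mem_and_subset (x := f y) (U := ⊤) trivial
  obtain ⟨U, hU, hyU, hUV⟩ := exists_isAffineOpen_mem_and_subset (x := y) (U := f ⁻¹ᵁ V) hyV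
  obtain ⟨hW, -⟩ := closure_appLE_eq_top f hV hU hUV
  set W := pullback.fst f f ⁻¹ᵁ U ⊓ pullback.snd f f ⁻¹ᵁ U with hWdef
  have hle : U ≤ pullback.diagonal f ⁻¹ᵁ W := fun x hx => by
    constructor
    · show pullback.fst f f (pullback.diagonal f x) ∈ U
      rw [← Scheme.Hom.comp_apply, pullback.diagonal_fst]; exact hx
    · show pullback.snd f f (pullback.diagonal f x) ∈ U
      rw [← Scheme.Hom.comp_apply, pullback.diagonal_snd]; exact hx
  have hpW : p ∈ W := hpy ▸ hle hyU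
  have hP : IsPushout (f.appLE V U hUV) (f.appLE V U hUV)
      ((pullback.fst f f).appLE U W inf_le_left) ((pullback.snd f f).appLE U W inf_le_right) :=
    (AlgebraicGeometry.isIso_pushoutSection_iff (IsPullback.of_hasPullback f f)
      (US := V) (UT := U) (UX := U) (UY := W) hUV hUV rfl).1
      (AlgebraicGeometry.isIso_pushoutSection_of_isAffineOpen (IsPullback.of_hasPullback f f)
        hUV hUV rfl hV hU hU)
  let A0 := S.presheaf.stalk (f y)
  let B0 := X.presheaf.stalk y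
  letI : Algebra A0 B0 := (f.stalkMap y).hom.toAlgebra
  let C0 := B0 ⊗[A0] B0
  let g : Γ(X, U) →+* B0 := (X.presheaf.germ U y hyU).hom
  let a₁ : Γ(X, U) ⟶ CommRingCat.of C0 :=
    CommRingCat.ofHom ((Algebra.TensorProduct.includeLeftRingHom : B0 →+* C0).comp g)
  let a₂ : Γ(X, U) ⟶ CommRingCat.of C0 :=
    CommRingCat.ofHom ((Algebra.TensorProduct.includeRight : B0 →ₐ[A0] C0).toRingHom.comp g)
  have ha : f.appLE V U hUV ≫ a₁ = f.appLE V U hUV ≫ a₂ := by
    refine CommRingCat.hom_ext (RingHom.ext fun s => ?_)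
    have h1 : g (f.appLE V U hUV s) = algebraMap A0 B0 (S.presheaf.germ V (f y) hyV s) := by
      show X.presheaf.germ U y hyU (f.appLE V U hUV s) = f.stalkMap y (S.presheaf.germ V (f y) hyV s)
      rw [Scheme.Hom.germ_stalkMap_apply, Scheme.Hom.appLE, ConcreteCategory.comp_apply,
        TopCat.Presheaf.germ_res_apply]
    show g (f.appLE V U hUV s) ⊗ₜ[A0] (1 : B0) = (1 : B0) ⊗ₜ[A0] g (f.appLE V U hUV s)
    rw [h1, Algebra.algebraMap_eq_smul_one, TensorProduct.smul_tmul]
  let κ : Γ(pullback f f, W) →+* C0 := (hP.desc a₁ a₂ ha).hom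
  have hκ₁ : ∀ t, κ ((pullback.fst f f).appLE U W inf_le_left t) = g t ⊗ₜ[A0] 1 := fun t =>
    congr($(hP.inl_desc a₁ a₂ ha) t)
  have hκ₂ : ∀ t, κ ((pullback.snd f f).appLE U W inf_le_right t) = (1 : B0) ⊗ₜ[A0] g t := fun t =>
    congr($(hP.inr_desc a₁ a₂ ha) t)
  let ε : C0 →+* B0 := (Algebra.TensorProduct.lmul' A0 (S := B0)).toRingHom
  let dW : Γ(pullback f f, W) →+* B0 :=
    g.comp ((pullback.diagonal f).appLE W U hle).hom
  have hεκ : ε.comp κ = dW := by
    have h : hP.desc a₁ a₂ ha ≫ CommRingCat.ofHom ε = CommRingCat.ofHom dW := by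
      refine hP.hom_ext ?_ ?_
      · refine CommRingCat.hom_ext (RingHom.ext fun t => ?_)
        show ε (κ ((pullback.fst f f).appLE U W inf_le_left t)) = g ((pullback.diagonal f).appLE W U hle ((pullback.fst f f).appLE U W inf_le_left t))
        rw [hκ₁, ← ConcreteCategory.comp_apply ((pullback.fst f f).appLE U W inf_le_left)
          ((pullback.diagonal f).appLE W U hle), Scheme.Hom.appLE_comp_appLE,
          app_congr_le (pullback.diagonal_fst f) U U _ (fun _ h => h) t]
        show g t * 1 = g (X.presheaf.map (homOfLE (le_refl U)).op t)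
        rw [mul_one, show (homOfLE (le_refl U)).op = 𝟙 _ from rfl, X.presheaf.map_id]
        rfl
      · refine CommRingCat.hom_ext (RingHom.ext fun t => ?_)
        show ε (κ ((pullback.snd f f).appLE U W inf_le_right t)) = g ((pullback.diagonal f).appLE W U hle ((pullback.snd f f).appLE U W inf_le_right t))
        rw [hκ₂, ← ConcreteCategory.comp_apply ((pullback.snd f f).appLE U W inf_le_right)
          ((pullback.diagonal f).appLE W U hle), Scheme.Hom.appLE_comp_appLE,
          app_congr_le (pullback.diagonal_snd f) U U _ (fun _ h => h) t]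
        show 1 * g t = g (X.presheaf.map (homOfLE (le_refl U)).op t)
        rw [one_mul, show (homOfLE (le_refl U)).op = 𝟙 _ from rfl, X.presheaf.map_id]
        rfl
    exact congrArg CommRingCat.Hom.hom h
  let Ω := (pullback.diagonal f).coborderRange
  have hWΩ : W ≤ Ω := le_coborderRange f hV hU hUV
  let W' : (Ω : Scheme.{u}).Opens := Ω.ι ⁻¹ᵁ W
  have hW' : IsAffineOpen W' := hW.preimage_of_isOpenImmersion Ω.ι (by rwa [Scheme.Opens.opensRange_ι])
  haveI : IsIso (Ω.ι.app W) := Scheme.Hom.isIso_app Ω.ι W (by rwa [Scheme.Opens.opensRange_ι])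
  let J0 := KaehlerDifferential.ideal A0 B0
  let q : C0 →+* C0 ⧸ J0 ^ (n + 1) := Ideal.Quotient.mk _
  let ψ : Γ(pullback f f, W) →+* Γ(nbhd f n, nbhdι f n ⁻¹ᵁ W) := ((nbhdι f n).app W).hom
  haveI : IsClosedImmersion (infNbhdι (diagCl f) n) := by unfold infNbhdι; infer_instance
  have hψsurj : Function.Surjective ψ := by
    intro t
    obtain ⟨c', hc'⟩ := ((diagCl f).ker ^ (n + 1)).subschemeι_app_surjective ⟨W', hW'⟩ t
    refine ⟨inv (Ω.ι.app W) c', ?_⟩
    show (infNbhdι (diagCl f) n).app W' (Ω.ι.app W (inv (Ω.ι.app W) c')) = t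
    rw [← ConcreteCategory.comp_apply (inv (Ω.ι.app W)), IsIso.inv_hom_id, ConcreteCategory.id_apply]
    exact hc'
  let κ' : Γ((Ω : Scheme.{u}), W') →+* C0 := κ.comp (inv (Ω.ι.app W)).hom
  have hκ' : ((diagCl f).ker.ideal ⟨W', hW'⟩).map κ' ≤ J0 := by
    rw [Ideal.map_le_iff_le_comap]
    intro c' hc'
    rw [Scheme.Hom.ker_apply, RingHom.mem_ker] at hc'
    show ε (κ' c') = 0
    show (ε.comp κ) (inv (Ω.ι.app W) c') = 0
    rw [hεκ]
    show g ((pullback.diagonal f).appLE W U hle (inv (Ω.ι.app W) c')) = 0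
    have hU' : U ≤ (diagCl f ≫ Ω.ι) ⁻¹ᵁ W := by
      rw [Scheme.Hom.liftCoborder_ι]; exact hle
    rw [← app_congr_le (Scheme.Hom.liftCoborder_ι (pullback.diagonal f)) W U hU' hle,
      Scheme.Hom.appLE, Scheme.Hom.comp_app, ConcreteCategory.comp_apply, ConcreteCategory.comp_apply,
      ← ConcreteCategory.comp_apply (inv (Ω.ι.app W)), IsIso.inv_hom_id, ConcreteCategory.id_apply]
    erw [hc', map_zero]
    exact map_zero g
  have hker : RingHom.ker ψ ≤ RingHom.ker (q.comp κ) := by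
    intro c hc
    have h1 : Ω.ι.app W c ∈ ((diagCl f).ker ^ (n + 1)).ideal ⟨W', hW'⟩ := by
      rw [← Scheme.IdealSheafData.ker_subschemeι_app, RingHom.mem_ker]
      exact hc
    rw [Scheme.IdealSheafData.ideal_pow] at h1
    have h2 : κ' (Ω.ι.app W c) ∈ J0 ^ (n + 1) := by
      have h3 := Ideal.mem_map_of_mem κ' h1
      rw [Pi.pow_apply, Ideal.map_pow] at h3
      exact Ideal.pow_right_mono hκ' _ h3
    rw [RingHom.mem_ker]
    refine Ideal.Quotient.eq_zero_iff_mem.2 ?_
    have h4 : κ' (Ω.ι.app W c) = κ c := by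
      show κ (inv (Ω.ι.app W) (Ω.ι.app W c)) = κ c
      rw [← ConcreteCategory.comp_apply (Ω.ι.app W), IsIso.hom_inv_id, ConcreteCategory.id_apply]
    rwa [h4] at h2
  let κT : Γ(nbhd f n, nbhdι f n ⁻¹ᵁ W) →+* C0 ⧸ J0 ^ (n + 1) :=
    RingHom.liftOfSurjective ψ hψsurj ⟨q.comp κ, hker⟩
  have hκT : ∀ c, κT (ψ c) = q (κ c) := fun c =>
    RingHom.liftOfRightInverse_comp_apply ψ _ (Function.rightInverse_surjInv hψsurj) ⟨q.comp κ, hker⟩ c
  have hT : IsAffineOpen (nbhdι f n ⁻¹ᵁ W) := hW'.preimage (infNbhdι (diagCl f) n)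
  have hzT : z ∈ nbhdι f n ⁻¹ᵁ W := hpW
  letI := TopCat.Presheaf.algebra_section_stalk (nbhd f n).presheaf (⟨z, hzT⟩ : (nbhdι f n ⁻¹ᵁ W : (nbhd f n).Opens))
  haveI := hT.isLocalization_stalk ⟨z, hzT⟩
  have hunit : ∀ s : (hT.primeIdealOf ⟨z, hzT⟩).asIdeal.primeCompl, IsUnit (κT s.1) := by
    intro s
    have hs : IsUnit ((nbhd f n).presheaf.germ _ z hzT s.1) :=
      IsLocalization.map_units ((nbhd f n).presheaf.stalk z) s
    obtain ⟨c, hc⟩ := hψsurj s.1
    rw [← hc] at hs ⊢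
    rw [hκT]
    have h1 : z ∈ (nbhd f n).basicOpen ((nbhdι f n).app W c) := (Scheme.mem_basicOpen _ _ z hzT).2 hs
    rw [← Scheme.preimage_basicOpen] at h1
    have h2 : pullback.diagonal f y ∈ (pullback f f).basicOpen c := hpy ▸ h1
    have h3 : y ∈ X.basicOpen ((pullback.diagonal f).appLE W U hle c) := by
      rw [Scheme.basicOpen_appLE]
      exact ⟨hyU, h2⟩
    have h4 : IsUnit (dW c) := (Scheme.mem_basicOpen _ _ y hyU).1 h3
    rw [← hεκ] at h4
    obtain ⟨b, hb⟩ := h4.exists_right_inv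
    have hb' : ε (b ⊗ₜ[A0] 1) = b := mul_one b
    have h5 : κ c * (b ⊗ₜ[A0] 1) - 1 ∈ J0 := by
      show ε _ = 0
      rw [map_sub, map_mul, hb', map_one]
      exact sub_eq_zero.2 hb
    have h6 : IsNilpotent (q (κ c * (b ⊗ₜ[A0] 1) - 1)) := ⟨n + 1, by
      rw [← map_pow]
      exact Ideal.Quotient.eq_zero_iff_mem.2 (Ideal.pow_mem_pow h5 _)⟩
    have h7 := h6.isUnit_add_one
    rw [map_sub, map_one, sub_add_cancel, map_mul] at h7
    exact isUnit_of_mul_isUnit_left h7
  let θ : (nbhd f n).presheaf.stalk z →+* C0 ⧸ J0 ^ (n + 1) := IsLocalization.lift hunit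
  have hθ : ∀ c, θ ((nbhdι f n).stalkMap z ((pullback f f).presheaf.germ W p hpW c)) = q (κ c) := fun c => by
    rw [Scheme.Hom.germ_stalkMap_apply, ← hκT]
    exact IsLocalization.lift_eq hunit (ψ c)
  letI := TopCat.Presheaf.algebra_section_stalk X.presheaf (⟨y, hyU⟩ : (U : X.Opens))
  haveI := hU.isLocalization_stalk ⟨y, hyU⟩
  have hL : θ.comp (stalkL f n z) = q.comp (Algebra.TensorProduct.includeLeftRingHom : B0 →+* C0) := by
    refine IsLocalization.ringHom_ext (hU.primeIdealOf ⟨y, hyU⟩).asIdeal.primeCompl (RingHom.ext fun t => ?_)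
    show θ (stalkL f n z (X.presheaf.germ U y hyU t)) = q (g t ⊗ₜ[A0] 1)
    rw [stalkL_germ]
    show θ ((nbhdι f n ≫ pullback.fst f f).stalkMap z (X.presheaf.germ U _ hpW.1 t)) = _
    exact (congrArg θ (stalkMap_germ_appLE (nbhdι f n) (pullback.fst f f) U W inf_le_left z hpW t).symm).trans
      ((hθ _).trans (congrArg q (hκ₁ t)))
  have hR : θ.comp ((pr2 f n).stalkMap z).hom =
      q.comp (Algebra.TensorProduct.includeRight : B0 →ₐ[A0] C0).toRingHom := by
    refine IsLocalization.ringHom_ext (hU.primeIdealOf ⟨y, hyU⟩).asIdeal.primeCompl (RingHom.ext fun t => ?_)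
    show θ ((nbhdι f n ≫ pullback.snd f f).stalkMap z (X.presheaf.germ U _ hpW.2 t)) =
      q ((1 : B0) ⊗ₜ[A0] g t)
    exact (congrArg θ (stalkMap_germ_appLE (nbhdι f n) (pullback.snd f f) U W inf_le_right z hpW t).symm).trans
      ((hθ _).trans (congrArg q (hκ₂ t)))
  exact ⟨θ, fun a => ⟨congr($hL a), congr($hR a)⟩⟩

end GrothLib.PPGen
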