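import Groth.Agent.Lib.OmegaUniv.Stalk
import Groth.Agent.Lib.OX.PullbackStalk
import Groth.Agent.Lib.OX.QCohPull
import Groth.Agent.Lib.OX.Exact
import Mathlib.RingTheory.Kaehler.Basic

/-!
# The pullback map of differentials on stalks
-/

set_option autoImplicit false
set_option linter.style.haveILetI false
set_option backward.isDefEq.respectTransparency false
set_option maxHeartbeats 1600000

universe u

open CategoryTheory CategoryTheory.Limits AlgebraicGeometry Opposite
open scoped TensorProduct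
open GrothLib GrothLib.OmegaUniv

noncomputable section

namespace GrothLib.PPGen

variable {X Y S : Scheme.{u}} (g : Y ⟶ S) (f : X ⟶ Y) (x : X)

attribute [local instance] OmegaUniv.stalkAlg

/-- `O_{X,x}` over `O_{S,g f x}`. -/
@[reducible] def compAlg : Algebra (S.presheaf.stalk (g (f x))) (X.presheaf.stalk x) :=
  stalkAlg (f ≫ g) x

attribute [local instance] compAlg

/-- The scalar tower of local rings of a composite. -/
theorem stalk_tower :
    IsScalarTower (S.presheaf.stalk (g (f x))) (Y.presheaf.stalk (f x)) (X.presheaf.stalk x) := by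
  refine IsScalarTower.of_algebraMap_eq fun r => ?_
  show ((f ≫ g).stalkMap x).hom r = (f.stalkMap x).hom ((g.stalkMap (f x)).hom r)
  rw [Scheme.Hom.stalkMap_comp]
  rfl

/-- The stalk of the pullback map of differentials is `mapBaseChange`, up to isomorphisms. -/
theorem stalk_diffCompat {ΩY : Y.Modules} {dY : OmegaSh.Der g ΩY} (hY : OmegaSh.IsUniversal dY)
    {ΩX : X.Modules} {dX : OmegaSh.Der (f ≫ g) ΩX} (hX : OmegaSh.IsUniversal dX)
    (c : (Scheme.Modules.pullback f).obj ΩY ⟶ ΩX) (hc : OmegaSh.IsDiffCompat f dY dX c) :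
    haveI := stalk_tower g f x
    (Epi ((OX.stalk x).map c) ↔ Function.Surjective (KaehlerDifferential.mapBaseChange
        (S.presheaf.stalk (g (f x))) (Y.presheaf.stalk (f x)) (X.presheaf.stalk x))) ∧
    (Mono ((OX.stalk x).map c) ↔ Function.Injective (KaehlerDifferential.mapBaseChange
        (S.presheaf.stalk (g (f x))) (Y.presheaf.stalk (f x)) (X.presheaf.stalk x))) := by
  let R := S.presheaf.stalk (g (f x))
  let A := Y.presheaf.stalk (f x)
  let B := X.presheaf.stalk x
  letI : Algebra R B := compAlg g f x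
  letI : Algebra R A := stalkAlg g (f x)
  letI : Algebra A B := stalkAlg f x
  haveI : IsScalarTower R A B := stalk_tower g f x
  let M := St (f x) ΩY
  let e₀ : St x ((Scheme.Modules.pullback f).obj ΩY) ≃ₗ[B] B ⊗[A] M :=
    ((OX.pullStalkIso f x).app ΩY).toLinearEquiv
  let e₁ : B ⊗[A] M ≃ₗ[B] B ⊗[A] Kah g (f x) :=
    TensorProduct.AlgebraTensorModule.congr (LinearEquiv.refl B B) (stalkEquiv (f x) hY)
  let τ : St x ΩX ≃ₗ[B] Kah (f ≫ g) x := stalkEquiv x hX
  let cx : St x ((Scheme.Modules.pullback f).obj ΩY) →ₗ[B] St x ΩX := ((OX.stalk x).map c).hom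
  let μ := KaehlerDifferential.mapBaseChange R A B
  have hcx : ∀ (U : X.Opens) (hx : x ∈ U) (m : Γ((Scheme.Modules.pullback f).obj ΩY, U)),
      cx (OX.germ (DCoh.toP.obj ((Scheme.Modules.pullback f).obj ΩY)) U hx m) =
        OX.germ (DCoh.toP.obj ΩX) U hx (c.app U m) :=
    fun U hx m => TopCat.Presheaf.stalkFunctor_map_germ_apply (F := ((Scheme.Modules.pullback f).obj ΩY).presheaf)
      (G := ΩX.presheaf) U x hx (Scheme.Modules.Hom.mapPresheaf c) m
  let L : B ⊗[A] M →ₗ[B] Kah (f ≫ g) x := τ.toLinearMap.comp (cx.comp e₀.symm.toLinearMap)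
  let L' : B ⊗[A] M →ₗ[B] Kah (f ≫ g) x := μ.comp e₁.toLinearMap
  have h1 : ∀ m : M, L ((1 : B) ⊗ₜ[A] m) = L' ((1 : B) ⊗ₜ[A] m) := by
    let K : Submodule A M :=
      { carrier := {m | L ((1 : B) ⊗ₜ[A] m) = L' ((1 : B) ⊗ₜ[A] m)}
        add_mem' := fun {m n} hm hn => by
          show L _ = L' _
          rw [TensorProduct.tmul_add, map_add, map_add, hm, hn]
        zero_mem' := by
          show L _ = L' _
          rw [TensorProduct.tmul_zero, map_zero, map_zero]
        smul_mem' := fun a m hm => by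
          show L _ = L' _
          rw [TensorProduct.tmul_smul, ← algebraMap_smul B a ((1 : B) ⊗ₜ[A] m), map_smul, map_smul, hm] }
    have hK : K = ⊤ := eq_top_of_dg_mem (f x) hY K fun U hU s => by
      show L _ = L' _
      let ξ := OX.germ (DCoh.toP.obj ((Scheme.Modules.pullback f).obj ΩY)) (f ⁻¹ᵁ U) hU
        (OX.pullSec f ΩY U (dY.app U s))
      have he : e₀ ξ = (1 : B) ⊗ₜ[A] dg dY U hU s := OX.pullStalkIso_germ f x ΩY U hU (dY.app U s)
      have hl : L (e₀ ξ) = τ (cx ξ) := by
        show τ (cx (e₀.symm (e₀ ξ))) = _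
        rw [LinearEquiv.symm_apply_apply]
      rw [← he, hl, he]
      have hcξ : cx ξ = dg dX (f ⁻¹ᵁ U) hU (f.app U s) :=
        (hcx _ _ _).trans (congrArg (OX.germ (DCoh.toP.obj ΩX) (f ⁻¹ᵁ U) hU) (hc U s))
      rw [hcξ]
      show τ _ = μ (e₁ ((1 : B) ⊗ₜ[A] dg dY U hU s))
      refine (stalkEquiv_dg x hX (f ⁻¹ᵁ U) hU (f.app U s)).trans (Eq.symm ?_)
      show μ ((1 : B) ⊗ₜ[A] stalkEquiv (f x) hY (dg dY U hU s)) = _
      rw [stalkEquiv_dg, KaehlerDifferential.mapBaseChange_tmul, one_smul, KaehlerDifferential.map_D]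
      exact congrArg (KaehlerDifferential.D R B) (Scheme.Hom.germ_stalkMap_apply f U x hU s)
    exact fun m => (hK.ge trivial : m ∈ K)
  have hL : ∀ w, L w = L' w := by
    intro w
    induction w using TensorProduct.induction_on with
    | zero => rw [map_zero, map_zero]
    | tmul r m =>
      rw [show r ⊗ₜ[A] m = r • ((1 : B) ⊗ₜ[A] m) by rw [TensorProduct.smul_tmul', smul_eq_mul, mul_one],
        map_smul, map_smul, h1]
    | add u v hu hv => rw [map_add, map_add, hu, hv]
  have hμ : (μ : B ⊗[A] Kah g (f x) → Kah (f ≫ g) x) = τ ∘ cx ∘ e₀.symm ∘ e₁.symm := by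
    funext w
    obtain ⟨v, rfl⟩ := e₁.surjective w
    refine (hL v).symm.trans ?_
    show τ (cx (e₀.symm v)) = τ (cx (e₀.symm (e₁.symm (e₁ v))))
    rw [LinearEquiv.symm_apply_apply]
  refine ⟨?_, ?_⟩
  · rw [ModuleCat.epi_iff_surjective]
    show Function.Surjective cx ↔ Function.Surjective μ
    rw [hμ]
    refine ⟨fun h => τ.surjective.comp (h.comp (e₀.symm.surjective.comp e₁.symm.surjective)), fun h y => ?_⟩
    obtain ⟨w, hw⟩ := h (τ y)
    exact ⟨_, τ.injective hw⟩
  · rw [ModuleCat.mono_iff_injective]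
    show Function.Injective cx ↔ Function.Injective μ
    rw [hμ]
    refine ⟨fun h => τ.injective.comp (h.comp (e₀.symm.injective.comp e₁.symm.injective)), fun h a b hab => ?_⟩
    have h' := @h (e₁ (e₀ a)) (e₁ (e₀ b)) (by
      show τ (cx (e₀.symm (e₁.symm (e₁ (e₀ a))))) = τ (cx (e₀.symm (e₁.symm (e₁ (e₀ b)))))
      simp only [LinearEquiv.symm_apply_apply, hab])
    exact e₀.injective (e₁.injective h')

end GrothLib.PPGen
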